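import Groth.Agent.Lib.CurveCoh17.TensorExact
import Groth.Agent.Lib.CurveCoh17.Degree
import Groth.Prelude.Def_FGA
import Groth.Prelude.Def_PicLoc
import Groth.Prelude.Def_Curv2

/-!
# Twists by several invertible modules
-/

set_option autoImplicit false
set_option linter.style.haveILetI false

universe u

open CategoryTheory CategoryTheory.Limits AlgebraicGeometry TopologicalSpace Opposite

namespace Groth.Agent.Snapper

open Groth.Agent

variable {X : Scheme.{u}}

theorem isInvertible_tensorList {l : List X.Modules} (hl : ∀ M ∈ l, PicF.IsInvertible M) :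
    PicF.IsInvertible (FGA.tensorList l) := by
  induction l with
  | nil => exact PicLoc.isInvertible_structureModule X
  | cons M l IH =>
    exact M2.isInvertible_tensor (hl M (by simp)) (IH fun N hN => hl N (by simp [hN]))

theorem isInvertible_multiTwist {n : ℕ} {L : Fin n → X.Modules} (hL : ∀ i, PicF.IsInvertible (L i))
    (m : Fin n → ℕ) : PicF.IsInvertible (FGA.multiTwist L m) := by
  refine isInvertible_tensorList fun M hM => ?_
  obtain ⟨i, -, rfl⟩ := List.mem_map.1 hM
  exact M2.isInvertible_tensorPow (hL i) _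

theorem nonempty_tensorList_update {ι : Type} [DecidableEq ι] (L : ι → X.Modules) (m : ι → ℕ) (i : ι) :
    ∀ {l : List ι}, l.Nodup → i ∈ l →
      Nonempty (FGA.tensorList (l.map fun j => CohB1.tensorPow (L j) (Function.update m i (m i + 1) j)) ≅
        CohB1.tensorMod (L i) (FGA.tensorList (l.map fun j => CohB1.tensorPow (L j) (m j)))) := by
  intro l
  induction l with
  | nil => intro _ h; cases h
  | cons a l IH =>
    intro hnd hi
    obtain ⟨hal, hnd'⟩ := List.nodup_cons.1 hnd
    rcases eq_or_ne a i with rfl | hai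
    · have hl : (l.map fun j => CohB1.tensorPow (L j) (Function.update m a (m a + 1) j)) =
          l.map fun j => CohB1.tensorPow (L j) (m j) :=
        List.map_congr_left fun j hj => by rw [Function.update_of_ne fun e => hal (by rwa [e] at hj)]
      simp only [List.map_cons, FGA.tensorList, hl, Function.update_self, CohB1.tensorPow]
      exact ⟨M2.tensorIso (M2.tensorComm _ _) (Iso.refl _) ≪≫ M2.tensorAssoc _ _ _⟩
    · obtain ⟨e⟩ := IH hnd' ((List.mem_cons.1 hi).resolve_left fun h => hai h.symm)
      simp only [List.map_cons, FGA.tensorList, Function.update_of_ne hai]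
      exact ⟨M2.tensorIso (Iso.refl _) e ≪≫ (M2.tensorAssoc _ _ _).symm ≪≫
        M2.tensorIso (M2.tensorComm _ _) (Iso.refl _) ≪≫ M2.tensorAssoc _ _ _⟩

theorem nonempty_multiTwist_update {n : ℕ} (L : Fin n → X.Modules) (m : Fin n → ℕ) (i : Fin n) :
    Nonempty (FGA.multiTwist L (Function.update m i (m i + 1)) ≅
      CohB1.tensorMod (L i) (FGA.multiTwist L m)) :=
  nonempty_tensorList_update L m i (List.nodup_finRange n) (List.mem_finRange i)

theorem nonempty_tensorList_append (l₁ l₂ : List X.Modules) :
    Nonempty (FGA.tensorList (l₁ ++ l₂) ≅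
      CohB1.tensorMod (FGA.tensorList l₁) (FGA.tensorList l₂)) := by
  induction l₁ with
  | nil => exact ⟨(M2.tensorLUnit _).symm⟩
  | cons M l IH =>
    obtain ⟨e⟩ := IH
    exact ⟨M2.tensorIso (Iso.refl M) e ≪≫ (M2.tensorAssoc _ _ _).symm⟩

theorem nonempty_tensorPows_iso (F : X.Modules) : ∀ (n : ℕ) (L : Fin n → X.Modules) (m : Fin n → ℕ),
    Nonempty (Curv2.tensorPows F n L m ≅ CohB1.tensorMod F (FGA.multiTwist L m))
  | 0, L, m => ⟨(M2.tensorRUnit F).symm⟩
  | n + 1, L, m => by
    obtain ⟨e⟩ := nonempty_tensorPows_iso F n (fun i => L i.castSucc) (fun i => m i.castSucc)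
    have hl : (List.finRange (n + 1)).map (fun i => CohB1.tensorPow (L i) (m i)) =
        (List.finRange n).map (fun i => CohB1.tensorPow (L i.castSucc) (m i.castSucc)) ++
          [CohB1.tensorPow (L (Fin.last n)) (m (Fin.last n))] := by
      rw [List.finRange_succ_last]
      simp [Function.comp_def]
    obtain ⟨a⟩ := nonempty_tensorList_append
      ((List.finRange n).map (fun i => CohB1.tensorPow (L i.castSucc) (m i.castSucc)))
      [CohB1.tensorPow (L (Fin.last n)) (m (Fin.last n))]
    refine ⟨M2.tensorIso e (Iso.refl _) ≪≫ M2.tensorAssoc _ _ _ ≪≫ M2.tensorIso (Iso.refl F) ?_⟩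
    exact M2.tensorIso (Iso.refl _) (M2.tensorRUnit _).symm ≪≫ a.symm ≪≫
      eqToIso (by rw [FGA.multiTwist, hl])

theorem flat_stalk {E : X.Modules} (hE : PicF.IsInvertible E) (x : X) :
    Module.Flat (X.presheaf.stalk x) (E.presheaf.stalk x) :=
  Module.Flat.of_linearEquiv
    (CurveCoh17.nonempty_stalk_equiv ((M2.isInvertible_iff_isFinLocFreeOfRank_one E).1 hE) x).some

theorem support_tensor_subset (M E : X.Modules) :
    CohB1.support (CohB1.tensorMod M E) ⊆ CohB1.support M := fun x hx => by
  by_contra h
  refine hx ?_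
  have : Subsingleton (M.presheaf.stalk x) := not_not.1 h
  exact (M2.stalkEquiv M E x).toEquiv.subsingleton

end Groth.Agent.Snapper
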