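import Groth.Agent.Lib.Snapper.Antidiff
import Groth.Agent.Lib.Snapper.Twist
import Groth.Agent.Lib.EulerAdd18.Basic
import Groth.Agent.Lib.CohFound.DevissageApps
import Groth.Agent.Lib.CohGab13.Basic
import Groth.Agent.Lib.ModM1.FibreProd
import Groth.Agent.Lib.CurveCoh17.Integral
import Groth.Agent.Lib.CurveAmple18.EulerTensor
import Groth.Agent.Lib.VB17.Sub

/-!
# Snapper's theorem
-/

set_option autoImplicit false
set_option linter.style.haveILetI false
set_option maxHeartbeats 1000000
set_option backward.isDefEq.respectTransparency false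

universe u

open CategoryTheory CategoryTheory.Limits AlgebraicGeometry TopologicalSpace Opposite

namespace Groth.Agent.Snapper

open Groth.Agent CohFound

variable {X : Scheme.{u}}

theorem isCoh_of_isInvertible {L : X.Modules} (hL : PicF.IsInvertible L) : Coh.IsCoh L :=
  CurveCoh17.isCoh_of_ofRank ((M2.isInvertible_iff_isFinLocFreeOfRank_one L).1 hL)

/-- A closed subset of an irreducible closed set missing the generic point has smaller dimension. -/
theorem dim_le_of_notMem {C : Set X} (hC : IsClosed C) {η : X} (hsub : C ⊆ closure {η}) (hη : η ∉ C)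
    {d : ℕ} (hd : topologicalKrullDim (closure ({η} : Set X)) ≤ (d + 1 : ℕ)) :
    topologicalKrullDim C ≤ (d : WithBot ℕ∞) := by
  let Z : Set X := closure {η}
  have hirr : IrreducibleSpace Z := Subtype.irreducibleSpace isIrreducible_singleton.closure
  refine iSup_le fun p => ?_
  let f : C → Z := Set.inclusion hsub
  have hf : Topology.IsClosedEmbedding f :=
    Topology.IsClosedEmbedding.inclusion hsub (hC.preimage continuous_subtype_val)
  have hmono : StrictMono (IrreducibleCloseds.map f hf.continuous) :=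
    IrreducibleCloseds.map_strictMono_of_isInducing hf.isInducing
  let top : IrreducibleCloseds Z := ⟨Set.univ, IrreducibleSpace.isIrreducible_univ Z, isClosed_univ⟩
  have hlt : IrreducibleCloseds.map f hf.continuous p.last < top := by
    refine lt_of_le_not_ge (Set.subset_univ _) fun h => hη ?_
    have h1 : (⟨η, subset_closure rfl⟩ : Z) ∈ closure (f '' (p.last : Set C)) := h (Set.mem_univ _)
    have h2 : closure (f '' (p.last : Set C)) ⊆ Set.range f :=
      closure_minimal (Set.image_subset_range _ _) hf.isClosed_range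
    obtain ⟨c, hc⟩ := h2 h1
    have hc' : (c : X) = η := congrArg Subtype.val hc
    exact hc' ▸ c.2
  have key := (Order.LTSeries.length_le_krullDim
    ((p.map _ hmono).snoc top (by simpa using hlt))).trans hd
  simp only [RelSeries.snoc_length, LTSeries.map_length] at key
  have h' : p.length + 1 ≤ d + 1 := by exact_mod_cast key
  exact_mod_cast (Nat.le_of_succ_le_succ h')

theorem dim_le_of_subset {A B : Set X} (h : A ⊆ B) {d : WithBot ℕ∞} (hB : topologicalKrullDim B ≤ d) :
    topologicalKrullDim A ≤ d :=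
  ((Topology.IsEmbedding.inclusion h).isInducing.topologicalKrullDim_le).trans hB

theorem eq_empty_of_notMem {C : Set X} (hC : IsClosed C) {η : X} (hsub : C ⊆ closure {η}) (hη : η ∉ C)
    (hd : topologicalKrullDim (closure ({η} : Set X)) ≤ 0) : C = ∅ := by
  by_contra hne
  obtain ⟨x, hx⟩ := Set.nonempty_iff_ne_empty.2 hne
  let Z : Set X := closure {η}
  have hirr : IrreducibleSpace Z := Subtype.irreducibleSpace isIrreducible_singleton.closure
  let a : IrreducibleCloseds Z :=
    ⟨closure {⟨x, hsub hx⟩}, isIrreducible_singleton.closure, isClosed_closure⟩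
  let top : IrreducibleCloseds Z := ⟨Set.univ, IrreducibleSpace.isIrreducible_univ Z, isClosed_univ⟩
  have hlt : a < top := by
    refine lt_of_le_not_ge (Set.subset_univ _) fun h => hη ?_
    have h1 : (⟨η, subset_closure rfl⟩ : Z) ∈ closure ({⟨x, hsub hx⟩} : Set Z) := h (Set.mem_univ _)
    exact closure_minimal (t := (Subtype.val ⁻¹' C : Set Z)) (Set.singleton_subset_iff.2 hx)
      (hC.preimage continuous_subtype_val) h1
  have key := (Order.LTSeries.length_le_krullDim ((RelSeries.singleton _ a).snoc top hlt : LTSeries _)).trans hd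
  simp at key
  exact absurd key (not_le.2 zero_lt_one)

/-- The twisted Euler characteristics of `G` are polynomial of degree at most `d`. -/
def Snap (k : Type u) [Field k] (X : Scheme.{u}) [X.Over (Spec (CommRingCat.of k))] (d : ℕ)
    (G : X.Modules) : Prop :=
  ∀ (n : ℕ) (L : Fin n → X.Modules), (∀ i, PicF.IsInvertible (L i)) →
    PolyLE d fun m => (Curv2.euler k X (CohB1.tensorMod G (FGA.multiTwist L m)) : ℚ)

variable {k : Type u} [Field k] [X.Over (Spec (CommRingCat.of k))]
  [IsProper (X ↘ Spec (CommRingCat.of k))]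

theorem euler_tensor_add {S : ShortComplex X.Modules} (hS : S.ShortExact) (h1 : Coh.IsCoh S.X₁)
    (h2 : Coh.IsCoh S.X₂) (h3 : Coh.IsCoh S.X₃) {T : X.Modules} (hT : PicF.IsInvertible T) :
    Curv2.euler k X (CohB1.tensorMod S.X₂ T) =
      Curv2.euler k X (CohB1.tensorMod S.X₁ T) + Curv2.euler k X (CohB1.tensorMod S.X₃ T) := by
  obtain ⟨N, hN⟩ := EulerAdd18.exists_bdd k X
  have hTc := isCoh_of_isInvertible hT
  have b1 : EulerAdd18.Bdd k (N + 1) (S.map (M2.tensorR T)).X₁ := hN _ (CurveCoh17.isCoh_tensor h1 hTc)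
  have b2 : EulerAdd18.Bdd k (N + 1) (S.map (M2.tensorR T)).X₂ := hN _ (CurveCoh17.isCoh_tensor h2 hTc)
  have b3 : EulerAdd18.Bdd k (N + 1) (S.map (M2.tensorR T)).X₃ := hN _ (CurveCoh17.isCoh_tensor h3 hTc)
  have hST := CurveCoh17.shortExact_tensorR hS T (flat_stalk hT)
  have h := EulerAdd18.euler_add (k := k) hST b1 b2 b3
  rw [show (S.map (M2.tensorR T)).X₁ = CohB1.tensorMod S.X₁ T from rfl,
    show (S.map (M2.tensorR T)).X₂ = CohB1.tensorMod S.X₂ T from rfl,
    show (S.map (M2.tensorR T)).X₃ = CohB1.tensorMod S.X₃ T from rfl] at h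
  exact h

theorem euler_of_isZero {M : X.Modules} (hM : Coh.IsCoh M) (h : IsZero M) : Curv2.euler k X M = 0 := by
  obtain ⟨N, hN⟩ := EulerAdd18.exists_bdd k X
  let s : (ShortComplex.mk (0 : M ⟶ M) (𝟙 M) zero_comp).Splitting :=
    { r := 0, s := 𝟙 M, f_r := h.eq_of_src _ _, s_g := Category.comp_id _, id := by simp }
  have := EulerAdd18.euler_add s.shortExact (hN M hM) (hN M hM) (hN M hM)
  change Curv2.euler k X M = Curv2.euler k X M + Curv2.euler k X M at this
  omega

theorem isZero_of_support_empty {M : X.Modules} (h : CohB1.support M = ∅) : IsZero M :=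
  (IsZero.iff_id_eq_zero M).2 <| Scheme.Modules.hom_ext _ _ fun U => by
    ext s
    exact M1.section_ext _ _ fun x _ =>
      (CurveCoh17.stalk_eq_zero_of_notMem_support (by simp [h]) _).trans
        (CurveCoh17.stalk_eq_zero_of_notMem_support (by simp [h]) _).symm

theorem Snap.of_support_empty {d : ℕ} {G : X.Modules} (hG : Coh.IsCoh G) (h : CohB1.support G = ∅) :
    Snap k X d G := fun n L hL => (polyLE_const d 0).congr fun m => by
  have hT := isInvertible_multiTwist hL m
  have h0 : CohB1.support (CohB1.tensorMod G (FGA.multiTwist L m)) = ∅ :=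
    Set.subset_empty_iff.1 (h ▸ support_tensor_subset G _)
  rw [euler_of_isZero (CurveCoh17.isCoh_tensor hG (isCoh_of_isInvertible hT)) (isZero_of_support_empty h0)]
  simp

theorem Snap.of_iso {d : ℕ} {M N : X.Modules} (e : M ≅ N) (h : Snap k X d M) : Snap k X d N :=
  fun n L hL => (h n L hL).congr fun m => by
    rw [CurveCoh17.euler_iso (M2.tensorIso e (Iso.refl (FGA.multiTwist L m)))]

theorem twoOfThreeOn_snap (d : ℕ) (Z₀ : Set X) : TwoOfThreeOn (Snap k X d) Z₀ where
  of_isZero M hM hz := Snap.of_support_empty hM (Set.eq_empty_of_forall_notMem fun x hx =>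
    hx (AddCommGrpCat.subsingleton_of_isZero ((M1.stalkAb x).map_isZero hz)))
  mid S hS h1 h2 h3 _ p1 p3 := fun n L hL => ((p1 n L hL).add (p3 n L hL)).congr fun m => by
    rw [euler_tensor_add hS h1 h2 h3 (isInvertible_multiTwist hL m)]; push_cast; ring
  left S hS h1 h2 h3 _ p2 p3 := fun n L hL => ((p2 n L hL).sub (p3 n L hL)).congr fun m => by
    rw [euler_tensor_add hS h1 h2 h3 (isInvertible_multiTwist hL m)]; push_cast; ring
  right S hS h1 h2 h3 _ p1 p2 := fun n L hL => ((p2 n L hL).sub (p1 n L hL)).congr fun m => by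
    rw [euler_tensor_add hS h1 h2 h3 (isInvertible_multiTwist hL m)]; push_cast; ring

/-- Two coherent modules isomorphic on an affine open containing `η`, both supported in the closure of `η`,
differ by modules supported in a closed subset of the closure not containing `η`. -/
theorem exists_zigzag (hX : X.IsSeparated) [IsLocallyNoetherian X] {G G' : X.Modules} (hG : Coh.IsCoh G)
    (hG' : Coh.IsCoh G') {η : X} (hs : CohB1.support G ⊆ closure {η})
    (hs' : CohB1.support G' ⊆ closure {η}) {U : X.Opens} (hU : IsAffineOpen U) (hηU : η ∈ U)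
    (e : G'.restrict U.ι ≅ G.restrict U.ι) :
    ∃ (W : X.Modules) (φ : W ⟶ G) (ψ : W ⟶ G'), Coh.IsCoh W ∧
      CohB1.support (kernel φ) ⊆ closure {η} \ (U : Set X) ∧
      CohB1.support (cokernel φ) ⊆ closure {η} \ (U : Set X) ∧
      CohB1.support (kernel ψ) ⊆ closure {η} \ (U : Set X) ∧
      CohB1.support (cokernel ψ) ⊆ closure {η} \ (U : Set X) := by
  haveI : IsAffineHom U.ι := CurveCoh17.isAffineHom_ι hU
  let P := (Scheme.Modules.pushforward U.ι).obj (G.restrict U.ι)
  have hP : Coh.IsQCoh P := PushFin12.isQCoh_pushforward U.ι (G.restrict U.ι) (M1.isQCoh_restrict hG.1 U.ι)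
  let a : G ⟶ P := (Scheme.Modules.restrictAdjunction U.ι).unit.app G
  let b : G' ⟶ P := (Scheme.Modules.restrictAdjunction U.ι).unit.app _ ≫
    (Scheme.Modules.pushforward U.ι).map e.hom
  have ha : IsIso ((Scheme.Modules.restrictFunctor U.ι).map a) := M1.isIso_restrict_unit U.ι G
  have hb : IsIso ((Scheme.Modules.restrictFunctor U.ι).map b) := by
    haveI := M1.isIso_restrict_unit U.ι G'
    simp only [b, Functor.map_comp]
    infer_instance
  have hfst := (Twist.isIso_restrict_map_iff _ U).1 (M1.isIso_restrict_fst a b U.ι hb)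
  have hsnd := (Twist.isIso_restrict_map_iff _ U).1 (M1.isIso_restrict_snd a b U.ι ha)
  have hW : CohB1.support (pullback a b) ⊆ closure {η} := by
    haveI : Mono (biprod.lift (pullback.fst a b) (pullback.snd a b)) :=
      ⟨fun g h he => pullback.hom_ext
        (by simpa using congrArg (fun t => t ≫ biprod.fst) he)
        (by simpa using congrArg (fun t => t ≫ biprod.snd) he)⟩
    refine (support_subset_of_mono (biprod.lift (pullback.fst a b) (pullback.snd a b))).trans ?_
    rw [CohGab13.support_mid (ShortComplex.Splitting.ofHasBinaryBiproduct G G').shortExact]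
    exact Set.union_subset hs hs'
  have key : ∀ {N : X.Modules} (φ : pullback a b ⟶ N), CohB1.support N ⊆ closure {η} →
      (∀ V : X.Opens, V ≤ U → Function.Bijective (φ.app V)) →
      CohB1.support (kernel φ) ⊆ closure {η} \ (U : Set X) ∧
        CohB1.support (cokernel φ) ⊆ closure {η} \ (U : Set X) := by
    intro N φ hN hφ
    refine ⟨fun x hx => ⟨hW (support_subset_of_mono (kernel.ι φ) hx), fun hxU => hx ?_⟩,
      fun x hx => ⟨hN (support_subset_of_epi (cokernel.π φ) hx), fun hxU => hx ?_⟩⟩
    · exact ⟨fun s t => (CurveCoh17.eq_zero_stalk_kernel φ x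
        (CurveCoh17.bijective_stalkMap_of_app φ U hφ hxU).1 s).trans
        (CurveCoh17.eq_zero_stalk_kernel φ x (CurveCoh17.bijective_stalkMap_of_app φ U hφ hxU).1 t).symm⟩
    · exact ⟨fun s t => (CurveCoh17.eq_zero_stalk_cokernel φ x
        (CurveCoh17.bijective_stalkMap_of_app φ U hφ hxU).2 s).trans
        (CurveCoh17.eq_zero_stalk_cokernel φ x (CurveCoh17.bijective_stalkMap_of_app φ U hφ hxU).2 t).symm⟩
  obtain ⟨h1, h2⟩ := key (pullback.fst a b) hs hfst
  obtain ⟨h3, h4⟩ := key (pullback.snd a b) hs' hsnd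
  exact ⟨_, _, _, M1.isCoh_fibreProd hG hG' hP a b, h1, h2, h3, h4⟩

theorem euler_tensor_hom {W N : X.Modules} (φ : W ⟶ N) (hW : Coh.IsCoh W) (hN : Coh.IsCoh N)
    {T : X.Modules} (hT : PicF.IsInvertible T) :
    Curv2.euler k X (CohB1.tensorMod N T) = Curv2.euler k X (CohB1.tensorMod W T) +
      Curv2.euler k X (CohB1.tensorMod (cokernel φ) T) -
        Curv2.euler k X (CohB1.tensorMod (kernel φ) T) := by
  haveI : IsNoetherian X := CohFound.isNoetherian_of_isProper (X ↘ (Spec (CommRingCat.of k)))
  have hK : Coh.IsCoh (kernel φ) := CurveCoh17.isCoh_kernel hW hN.1 φ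
  have hC : Coh.IsCoh (cokernel φ) := M1.isCoh_cokernel hW.1 hN φ
  have hI : Coh.IsCoh (Abelian.image φ) := CurveCoh17.isCoh_kernel hN hC.1 _
  have e1 := euler_tensor_add (k := k) (CurveCoh17.kerSC_shortExact φ) hK hW hI hT
  have e2 := euler_tensor_add (k := k) (CurveCoh17.cokerSC_shortExact φ) hI hN hC hT
  simp only at e1 e2
  omega

variable (k X) in
theorem snapper : ∀ (d : ℕ) (F : X.Modules), Coh.IsCoh F →
    topologicalKrullDim (CohB1.support F) ≤ (d : WithBot ℕ∞) → Snap k X d F := by
  haveI : IsNoetherian X := CohFound.isNoetherian_of_isProper (X ↘ (Spec (CommRingCat.of k)))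
  have hsep : X.IsSeparated := CurveAmple18.isSeparated k X
  intro d
  induction d using Nat.strong_induction_on with
  | _ d IH =>
  intro F hF hdim
  refine (twoOfThreeOn_snap d (CohB1.support F)).holds (fun η hη => ?_) hF subset_rfl
  obtain ⟨Z, i, hi, hZ, hr, hηi, -⟩ := exists_integral_point η
  haveI : IsLocallyNoetherian Z := LocallyOfFiniteType.isLocallyNoetherian i
  subst hηi
  obtain ⟨g, hg, hgen, hkill⟩ := exists_cyclic_push_structureModule i
  let G := (Scheme.Modules.pushforward i).obj (Coh.structureModule Z)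
  have hG : Coh.IsCoh G := isCoh_push_closedImm i (M1.isCoh_structureModule Z)
  have hGs : CohB1.support G ⊆ closure {i (genericPoint Z)} := (support_push_subset i _).trans hr.le
  refine ⟨HasModel.ofCyclic (fun M N h p => Snap.of_iso h.some p) G hG hGs g hg hgen hkill ?_⟩
  have hdη : topologicalKrullDim (closure ({i (genericPoint Z)} : Set X)) ≤ (d : WithBot ℕ∞) :=
    dim_le_of_subset ((M1.isClosed_support hF.2).closure_subset_iff.2 (Set.singleton_subset_iff.2 hη)) hdim
  intro n L hL
  have hdiff : ∀ j : Fin n, ∃ Ks : List (ℤ × X.Modules),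
      (∀ p ∈ Ks, Coh.IsCoh p.2 ∧ ∃ C : Set X, IsClosed C ∧ CohB1.support p.2 ⊆ C ∧
        C ⊆ closure {i (genericPoint Z)} ∧ i (genericPoint Z) ∉ C) ∧
      ∀ m : Fin n → ℕ,
        (Curv2.euler k X (CohB1.tensorMod G (FGA.multiTwist L (Function.update m j (m j + 1)))) : ℚ) -
          Curv2.euler k X (CohB1.tensorMod G (FGA.multiTwist L m)) =
        (Ks.map fun p => (p.1 : ℚ) * Curv2.euler k X (CohB1.tensorMod p.2 (FGA.multiTwist L m))).sum := by
    intro j
    have hLj := isCoh_of_isInvertible (hL j)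
    have hG' : Coh.IsCoh (CohB1.tensorMod G (L j)) := CurveCoh17.isCoh_tensor hG hLj
    obtain ⟨V, hηV, ⟨eV⟩⟩ := hL j (i (genericPoint Z))
    obtain ⟨U, hU, hηU, hUV⟩ := exists_isAffineOpen_mem_and_subset (U := V) hηV
    obtain ⟨eU⟩ := M2.nonempty_trivial_mono hUV eV
    obtain ⟨W, φ, ψ, hW, k1, c1, k2, c2⟩ := exists_zigzag hsep hG hG' hGs
      ((support_tensor_subset G _).trans hGs) hU hηU
      (M2.restrictTensorIso U.ι G (L j) ≪≫ M2.tensorIso (Iso.refl _) eU ≪≫ M2.tensorRUnit _)
    refine ⟨[(1, cokernel ψ), (-1, kernel ψ), (-1, cokernel φ), (1, kernel φ)], ?_, fun m => ?_⟩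
    · have hC : IsClosed (closure {i (genericPoint Z)} \ (U : Set X)) :=
        isClosed_closure.sdiff U.isOpen
      simp only [List.mem_cons, List.not_mem_nil, or_false]
      rintro p (rfl | rfl | rfl | rfl)
      · exact ⟨M1.isCoh_cokernel hW.1 hG' ψ, _, hC, c2, Set.sdiff_subset, fun h => h.2 hηU⟩
      · exact ⟨CurveCoh17.isCoh_kernel hW hG'.1 ψ, _, hC, k2, Set.sdiff_subset, fun h => h.2 hηU⟩
      · exact ⟨M1.isCoh_cokernel hW.1 hG φ, _, hC, c1, Set.sdiff_subset, fun h => h.2 hηU⟩
      · exact ⟨CurveCoh17.isCoh_kernel hW hG.1 φ, _, hC, k1, Set.sdiff_subset, fun h => h.2 hηU⟩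
    · have hT := isInvertible_multiTwist hL m
      obtain ⟨e⟩ := nonempty_multiTwist_update L m j
      rw [CurveCoh17.euler_iso (M2.tensorIso (Iso.refl G) e ≪≫ (M2.tensorAssoc _ _ _).symm),
        euler_tensor_hom ψ hW hG' hT, euler_tensor_hom φ hW hG hT]
      simp only [List.map_cons, List.map_nil, List.sum_cons, List.sum_nil]
      push_cast
      ring
  rcases d with _ | d'
  · refine polyLE_zero_of_diff_eq_zero _ fun j m => sub_eq_zero.1 ?_
    obtain ⟨Ks, hKs, he⟩ := hdiff j
    rw [he m]
    refine List.sum_eq_zero fun t ht => ?_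
    obtain ⟨p, hp, rfl⟩ := List.mem_map.1 ht
    obtain ⟨hpc, C, hC, hpC, hCs, hηC⟩ := hKs p hp
    have hT := isInvertible_multiTwist hL m
    have h0 : CohB1.support (CohB1.tensorMod p.2 (FGA.multiTwist L m)) = ∅ :=
      Set.subset_empty_iff.1 (((support_tensor_subset _ _).trans hpC).trans
        (eq_empty_of_notMem hC hCs hηC (by simpa using hdη)).le)
    rw [euler_of_isZero (CurveCoh17.isCoh_tensor hpc (isCoh_of_isInvertible hT))
      (isZero_of_support_empty h0)]
    simp
  · refine polyLE_of_diff _ fun j => ?_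
    obtain ⟨Ks, hKs, he⟩ := hdiff j
    refine PolyLE.congr ?_ fun m => (he m).symm
    clear he
    induction Ks with
    | nil => exact (polyLE_const d' 0).congr fun m => by simp
    | cons p Ks IH' =>
      obtain ⟨hpc, C, hC, hpC, hCs, hηC⟩ := hKs p (List.mem_cons_self ..)
      obtain ⟨P, hP, hPe⟩ := IH d' (Nat.lt_succ_self _) p.2 hpc
        (dim_le_of_subset hpC (dim_le_of_notMem hC hCs hηC hdη)) n L hL
      refine PolyLE.congr (PolyLE.add (f := fun m => (p.1 : ℚ) *
          Curv2.euler k X (CohB1.tensorMod p.2 (FGA.multiTwist L m))) ?_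
        (IH' fun q hq => hKs q (List.mem_cons_of_mem _ hq))) fun m => by simp
      refine ⟨MvPolynomial.C (p.1 : ℚ) * P, (MvPolynomial.totalDegree_mul _ _).trans ?_, fun m => ?_⟩
      · rw [MvPolynomial.totalDegree_C, zero_add]; exact hP
      · rw [map_mul, MvPolynomial.eval_C, ← hPe m]

end Groth.Agent.Snapper
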