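import Groth.Agent.Lib.VanFib13.Apply
import Groth.Agent.Lib.EulerAdd18.Basic
import Groth.Prelude.Def_FGA
import Groth.Prelude.Def_Curv2

/-!
# Vanishing of coherent cohomology above the dimension, proper over a field
-/

set_option autoImplicit false
set_option linter.style.haveILetI false
set_option backward.isDefEq.respectTransparency false
set_option backward.isDefEq.respectTransparency.types false

universe u

open CategoryTheory CategoryTheory.Limits AlgebraicGeometry TopologicalSpace Opposite

namespace Groth.Agent.Snapper

open Groth.Agent CohFound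

variable {k : Type u} [Field k] {X : Scheme.{u}} [X.Over (Spec (CommRingCat.of k))]
  [IsProper (X ↘ Spec (CommRingCat.of k))]

theorem subsingleton_HH_of_dim (k : Type u) [Field k] [X.Over (Spec (CommRingCat.of k))]
    [IsProper (X ↘ Spec (CommRingCat.of k))] (d : ℕ) (hd : topologicalKrullDim X ≤ (d : WithBot ℕ∞))
    {M : X.Modules} (hM : Coh.IsQCoh M) {n : ℕ} (hn : d < n) : Subsingleton (Coh.HH X M n) := by
  rw [subsingleton_HH_iff]
  have h := VanFib13.subsingleton_hc_affine (X ↘ Spec (CommRingCat.of k))
    (isAffineOpen_top (Spec (CommRingCat.of k))) d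
    (fun w _ => le_trans (Topology.IsInducing.subtypeVal.topologicalKrullDim_le) hd) hM hn
  exact h

theorem eulerCharLE_eq_euler (d : ℕ) (hd : topologicalKrullDim X ≤ (d : WithBot ℕ∞))
    {M : X.Modules} (hM : Coh.IsCoh M) : FGA.eulerCharLE k X M d = Curv2.euler k X M := by
  have h : EulerAdd18.Bdd k (d + 1) M :=
    ⟨fun n => finite_HH_of_isProper M hM n, fun n hn => subsingleton_HH_of_dim k d hd hM.1 (by omega)⟩
  exact h.euler_eq.symm

end Groth.Agent.Snapper
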