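import Groth.Agent.Lib.Snapper.Main
import Groth.Agent.Lib.Snapper.Vanish

/-!
# Intersection numbers
-/

set_option autoImplicit false
set_option linter.style.haveILetI false
set_option backward.isDefEq.respectTransparency false

universe u

open CategoryTheory CategoryTheory.Limits AlgebraicGeometry TopologicalSpace Opposite

namespace Groth.Agent.Snapper

open Groth.Agent

variable {X : Scheme.{u}}

theorem nonempty_tensorList_perm {l₁ l₂ : List X.Modules} (h : l₁.Perm l₂) :
    Nonempty (FGA.tensorList l₁ ≅ FGA.tensorList l₂) := by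
  induction h with
  | nil => exact ⟨Iso.refl _⟩
  | cons a _ ih => obtain ⟨e⟩ := ih; exact ⟨M2.tensorIso (Iso.refl a) e⟩
  | swap a b l =>
    exact ⟨(M2.tensorAssoc b a _).symm ≪≫ M2.tensorIso (M2.tensorComm b a) (Iso.refl _) ≪≫
      M2.tensorAssoc a b _⟩
  | trans _ _ ih₁ ih₂ => obtain ⟨e⟩ := ih₁; obtain ⟨e'⟩ := ih₂; exact ⟨e ≪≫ e'⟩

theorem nonempty_tensorList_filter {ι : Type} (M : ι → X.Modules) (p : ι → Bool) (l : List ι) :
    Nonempty (FGA.tensorList ((l.filter p).map M) ≅
      FGA.tensorList (l.map fun i => CohB1.tensorPow (M i) (p i).toNat)) := by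
  induction l with
  | nil => exact ⟨Iso.refl _⟩
  | cons a l ih =>
    obtain ⟨e⟩ := ih
    cases h : p a with
    | false =>
      rw [List.filter_cons_of_neg (by simp [h])]
      simp only [List.map_cons, FGA.tensorList, h, Bool.toNat_false, CohB1.tensorPow]
      exact ⟨e ≪≫ (M2.tensorLUnit _).symm⟩
    | true =>
      rw [List.filter_cons_of_pos h]
      simp only [List.map_cons, FGA.tensorList, h, Bool.toNat_true]
      exact ⟨M2.tensorIso (M2.tensorPowOne _).symm e⟩

/-- Alternating sum of a function over the vertices of the unit cube. -/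
def alt {r : ℕ} (g : (Fin r → ℕ) → ℤ) : ℤ :=
  ∑ b : Fin r → Bool, (∏ i, if b i then (-1 : ℤ) else 1) * g fun i => (b i).toNat

theorem alt_cons {r : ℕ} (g : (Fin (r + 1) → ℕ) → ℤ) :
    alt g = alt (fun m => g (Fin.cons 0 m)) - alt (fun m => g (Fin.cons 1 m)) := by
  have h : ∀ (c : Bool) (b : Fin r → Bool),
      (fun i => ((Fin.cons c b : Fin (r + 1) → Bool) i).toNat) =
        (Fin.cons c.toNat (fun i => (b i).toNat) : Fin (r + 1) → ℕ) := fun c b => by
    funext i; refine Fin.cases ?_ (fun j => ?_) i <;> simp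
  simp only [alt]
  rw [← (Fin.consEquiv fun _ : Fin (r + 1) => Bool).sum_comp, Fintype.sum_prod_type, Fintype.sum_bool]
  simp only [Fin.consEquiv_apply, Fin.prod_univ_succ, Fin.cons_zero, Fin.cons_succ, h]
  simp only [if_true, Bool.false_eq_true, if_false, neg_mul, one_mul, Finset.sum_neg_distrib]
  simp only [Bool.toNat_true, Bool.toNat_false]
  ring

theorem alt_eq_zero {r d : ℕ} (hd : d < r) (g : (Fin r → ℕ) → ℤ)
    (h : PolyLE d fun m => (g m : ℚ)) : alt g = 0 := by
  obtain ⟨P, hP, hg⟩ := h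
  suffices ((alt g : ℤ) : ℚ) = 0 by exact_mod_cast this
  rw [alt]
  push_cast
  simp only [hg]
  conv_lhs => enter [2, b, 2]; rw [P.as_sum, map_sum]
  simp only [Finset.mul_sum]
  rw [Finset.sum_comm]
  refine Finset.sum_eq_zero fun s hs => ?_
  obtain ⟨i, hi⟩ : ∃ i, s i = 0 := by
    by_contra h0
    push Not at h0
    have h1 : r ≤ s.sum fun _ e => e := by
      rw [Finsupp.sum_fintype _ _ fun _ => rfl]
      calc r = ∑ _i : Fin r, 1 := by simp
        _ ≤ _ := Finset.sum_le_sum fun i _ => Nat.pos_of_ne_zero (h0 i)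
    have := (MvPolynomial.le_totalDegree hs).trans hP
    omega
  simp only [MvPolynomial.eval_monomial, Finsupp.prod_pow]
  simp only [mul_left_comm _ (MvPolynomial.coeff s P), ← Finset.mul_sum, ← Finset.prod_mul_distrib]
  rw [← Fintype.prod_sum (fun j (c : Bool) => (if c then (-1 : ℚ) else 1) * ((c.toNat : ℕ) : ℚ) ^ s j),
    Finset.prod_eq_zero (Finset.mem_univ i), mul_zero]
  simp [hi]

/-- Finite sets are boolean functions. -/
def setBool (r : ℕ) : Finset (Fin r) ≃ (Fin r → Bool) where
  toFun I i := decide (i ∈ I)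
  invFun b := Finset.univ.filter fun i => b i = true
  left_inv I := by ext i; simp
  right_inv b := by funext i; simp

variable (k : Type u) [Field k] [X.Over (Spec (CommRingCat.of k))]
  [IsProper (X ↘ Spec (CommRingCat.of k))]

/-- `m ↦ χ(F ⊗ M₁^{m₁} ⊗ ⋯)`. -/
noncomputable def chi {r : ℕ} (M : Fin r → X.Modules) (F : X.Modules) (m : Fin r → ℕ) : ℤ :=
  Curv2.euler k X (CohB1.tensorMod F (FGA.multiTwist M m))

variable {k}

theorem intNum_eq_alt {d : ℕ} (hd : topologicalKrullDim X ≤ (d : WithBot ℕ∞)) {r : ℕ}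
    {M : Fin r → X.Modules} (hM : ∀ i, PicF.IsInvertible (M i)) {F : X.Modules} (hF : Coh.IsCoh F) :
    FGA.intNum k X d M F = alt (chi k M F) := by
  rw [alt, ← (setBool r).sum_comp, FGA.intNum]
  refine Finset.sum_congr rfl fun I _ => ?_
  have hl : PicF.IsInvertible (FGA.tensorList ((I.sort (· ≤ ·)).map M)) :=
    isInvertible_tensorList fun N hN => by
      obtain ⟨i, -, rfl⟩ := List.mem_map.1 hN
      exact hM i
  rw [eulerCharLE_eq_euler d hd (CurveCoh17.isCoh_tensor (isCoh_of_isInvertible hl) hF)]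
  congr 1
  · simp [setBool, Finset.prod_ite, Finset.filter_mem_eq_inter]
  · have hp : ((I.sort (· ≤ ·))).Perm ((List.finRange r).filter fun i => decide (i ∈ I)) :=
      (List.perm_ext_iff_of_nodup (Finset.sort_nodup _ _)
        ((List.nodup_finRange r).filter _)).2 fun i => by simp
    obtain ⟨e₁⟩ := nonempty_tensorList_perm (hp.map M)
    obtain ⟨e₂⟩ := nonempty_tensorList_filter M (fun i => decide (i ∈ I)) (List.finRange r)
    exact CurveCoh17.euler_iso (M2.tensorComm _ F ≪≫ M2.tensorIso (Iso.refl F) (e₁ ≪≫ e₂))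

theorem nonempty_multiTwist_cons {r : ℕ} (A : X.Modules) (M : Fin r → X.Modules) (c : ℕ) (m : Fin r → ℕ) :
    Nonempty (FGA.multiTwist (Fin.cons A M) (Fin.cons c m) ≅
      CohB1.tensorMod (CohB1.tensorPow A c) (FGA.multiTwist M m)) := by
  refine ⟨eqToIso ?_⟩
  simp [FGA.multiTwist, List.finRange_succ, FGA.tensorList, Function.comp_def]

theorem alt_chi_cons {r : ℕ} (A : X.Modules) (M : Fin r → X.Modules) (F : X.Modules) :
    alt (chi k (Fin.cons A M) F) = alt (chi k M F) - alt (chi k M (CohB1.tensorMod A F)) := by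
  have h0 : (fun m => chi k (Fin.cons A M) F (Fin.cons 0 m)) = chi k M F := funext fun m => by
    obtain ⟨e⟩ := nonempty_multiTwist_cons A M 0 m
    exact CurveCoh17.euler_iso (M2.tensorIso (Iso.refl F) (e ≪≫ M2.tensorLUnit _))
  have h1 : (fun m => chi k (Fin.cons A M) F (Fin.cons 1 m)) = chi k M (CohB1.tensorMod A F) :=
    funext fun m => by
      obtain ⟨e⟩ := nonempty_multiTwist_cons A M 1 m
      exact CurveCoh17.euler_iso (M2.tensorIso (Iso.refl F) e ≪≫
        M2.tensorIso (Iso.refl F) (M2.tensorIso (M2.tensorPowOne A) (Iso.refl _)) ≪≫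
        (M2.tensorAssoc _ _ _).symm ≪≫ M2.tensorIso (M2.tensorComm F A) (Iso.refl _))
  rw [alt_cons, h0, h1]

theorem alt_chi_iso {r : ℕ} (M : Fin r → X.Modules) {F G : X.Modules} (e : F ≅ G) :
    alt (chi k M F) = alt (chi k M G) := by
  congr 1
  funext m
  exact CurveCoh17.euler_iso (M2.tensorIso e (Iso.refl _))

theorem isInvertible_cons {r : ℕ} {A : X.Modules} (hA : PicF.IsInvertible A) {M : Fin r → X.Modules}
    (hM : ∀ i, PicF.IsInvertible (M i)) : ∀ i, PicF.IsInvertible ((Fin.cons A M : Fin (r + 1) → X.Modules) i) :=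
  fun i => Fin.cases (by simpa using hA) (fun j => by simpa using hM j) i

/-- Intersection numbers vanish above the dimension of the support. -/
theorem alt_chi_eq_zero {r e : ℕ} {M : Fin r → X.Modules} (hM : ∀ i, PicF.IsInvertible (M i))
    {F : X.Modules} (hF : Coh.IsCoh F) (he : topologicalKrullDim (CohB1.support F) ≤ (e : WithBot ℕ∞))
    (her : e < r) : alt (chi k M F) = 0 :=
  alt_eq_zero her _ (snapper X k e F hF he r M hM)

theorem support_tensor_subset_right (E F : X.Modules) :
    CohB1.support (CohB1.tensorMod E F) ⊆ CohB1.support F := fun x hx => by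
  by_contra h
  refine hx ?_
  have : Subsingleton (F.presheaf.stalk x) := not_not.1 h
  exact (M2.stalkEquiv E F x).toEquiv.subsingleton

/-- Additivity in the first slot. -/
theorem alt_chi_cons_tensor {r : ℕ} {A B : X.Modules} (hA : PicF.IsInvertible A) (hB : PicF.IsInvertible B)
    {M : Fin r → X.Modules} (hM : ∀ i, PicF.IsInvertible (M i)) {F : X.Modules} (hF : Coh.IsCoh F)
    (hr : topologicalKrullDim (CohB1.support F) ≤ ((r + 1 : ℕ) : WithBot ℕ∞)) :
    alt (chi k (Fin.cons (CohB1.tensorMod A B) M) F) =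
      alt (chi k (Fin.cons A M) F) + alt (chi k (Fin.cons B M) F) := by
  have h0 := alt_chi_eq_zero (k := k) (isInvertible_cons hA (isInvertible_cons hB hM)) hF hr (Nat.lt_succ_self _)
  have hi := alt_chi_iso (k := k) M (M2.tensorIso (M2.tensorComm A B) (Iso.refl F) ≪≫ M2.tensorAssoc B A F)
  rw [alt_chi_cons, alt_chi_cons, alt_chi_cons] at h0
  rw [alt_chi_cons, alt_chi_cons, alt_chi_cons, hi]
  linarith

theorem alt_chi_const_tensor {L M : X.Modules} (e : CohB1.tensorMod L M ≅ Coh.structureModule X)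
    (F : X.Modules) (i : ℕ) :
    alt (chi k (fun _ : Fin i => M) (CohB1.tensorMod L F)) = alt (chi k (fun _ : Fin i => M) F) +
      alt (chi k (fun _ : Fin (i + 1) => M) (CohB1.tensorMod L F)) := by
  have hc : (fun _ : Fin (i + 1) => M) = Fin.cons M (fun _ : Fin i => M) := by
    funext j; refine Fin.cases ?_ (fun j => ?_) j <;> simp
  rw [hc, alt_chi_cons, alt_chi_iso (k := k) (fun _ : Fin i => M)
    ((M2.tensorAssoc M L F).symm ≪≫ M2.tensorIso (M2.tensorComm M L ≪≫ e) (Iso.refl F) ≪≫ M2.tensorLUnit F)]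
  ring

theorem alt_chi_tensor_sum {L M : X.Modules} (hL : PicF.IsInvertible L) (hM : PicF.IsInvertible M)
    (e : CohB1.tensorMod L M ≅ Coh.structureModule X) {F : X.Modules} (hF : Coh.IsCoh F) {r : ℕ}
    (hr : topologicalKrullDim (CohB1.support F) ≤ (r : WithBot ℕ∞)) :
    ∀ n i : ℕ, i + n = r + 1 → alt (chi k (fun _ : Fin i => M) (CohB1.tensorMod L F)) =
      ∑ j ∈ Finset.Ico i (r + 1), alt (chi k (fun _ : Fin j => M) F)
  | 0, i, hi => by
    rw [Finset.Ico_eq_empty (by omega), Finset.sum_empty]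
    exact alt_chi_eq_zero (fun _ => hM) (CurveCoh17.isCoh_tensor (isCoh_of_isInvertible hL) hF)
      (dim_le_of_subset (support_tensor_subset_right L F) hr) (by omega)
  | n + 1, i, hi => by
    rw [alt_chi_const_tensor e, alt_chi_tensor_sum hL hM e hF hr n (i + 1) (by omega),
      Finset.sum_eq_sum_Ico_succ_bot (by omega : i < r + 1) (fun j => alt (chi k (fun _ : Fin j => M) F))]

theorem choose_hockey (m : ℕ) : ∀ j : ℕ,
    ∑ i ∈ Finset.range (j + 1), ((m + i - 1).choose i : ℤ) = ((m + j).choose j : ℤ)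
  | 0 => by simp
  | j + 1 => by
    rw [Finset.sum_range_succ, choose_hockey m j, show m + (j + 1) - 1 = m + j by omega,
      show m + (j + 1) = (m + j) + 1 by omega, Nat.choose_succ_succ']
    push_cast
    ring

theorem euler_tensorPow_eq_sum {L M : X.Modules} (hL : PicF.IsInvertible L) (hM : PicF.IsInvertible M)
    (e : CohB1.tensorMod L M ≅ Coh.structureModule X) (r : ℕ) (m : ℕ) :
    ∀ F : X.Modules, Coh.IsCoh F → topologicalKrullDim (CohB1.support F) ≤ (r : WithBot ℕ∞) →
      Curv2.euler k X (CohB1.tensorMod (CohB1.tensorPow L m) F) =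
        ∑ i ∈ Finset.range (r + 1), ((m + i - 1).choose i : ℤ) * alt (chi k (fun _ : Fin i => M) F) := by
  induction m with
  | zero =>
    intro F _ _
    rw [Finset.sum_range_succ', Finset.sum_eq_zero fun i _ => by
      rw [Nat.choose_eq_zero_of_lt (by omega)]; simp]
    simp only [zero_add, Nat.choose_zero_right, Nat.cast_one, one_mul]
    rw [alt, Fintype.sum_unique]
    simp only [Finset.univ_eq_empty, Finset.prod_empty, one_mul]
    exact CurveCoh17.euler_iso (M2.tensorLUnit F ≪≫ (M2.tensorRUnit F).symm ≪≫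
      M2.tensorIso (Iso.refl F) (eqToIso (by simp [FGA.multiTwist, FGA.tensorList])))
  | succ m IH =>
    intro F hF hr
    have hLF := CurveCoh17.isCoh_tensor (isCoh_of_isInvertible hL) hF
    rw [CurveCoh17.euler_iso (show CohB1.tensorMod (CohB1.tensorPow L (m + 1)) F ≅
      CohB1.tensorMod (CohB1.tensorPow L m) (CohB1.tensorMod L F) from M2.tensorAssoc _ _ _),
      IH _ hLF (dim_le_of_subset (support_tensor_subset_right L F) hr)]
    calc ∑ i ∈ Finset.range (r + 1), ((m + i - 1).choose i : ℤ) *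
          alt (chi k (fun _ : Fin i => M) (CohB1.tensorMod L F))
        = ∑ i ∈ Finset.range (r + 1), ∑ j ∈ Finset.Ico i (r + 1),
            ((m + i - 1).choose i : ℤ) * alt (chi k (fun _ : Fin j => M) F) := by
          refine Finset.sum_congr rfl fun i hi => ?_
          rw [alt_chi_tensor_sum hL hM e hF hr (r + 1 - i) i (by have := Finset.mem_range.1 hi; omega),
            Finset.mul_sum]
      _ = ∑ j ∈ Finset.range (r + 1), ∑ i ∈ Finset.range (j + 1),
            ((m + i - 1).choose i : ℤ) * alt (chi k (fun _ : Fin j => M) F) := by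
          refine Finset.sum_comm' fun i j => ?_
          simp only [Finset.mem_range, Finset.mem_Ico]
          omega
      _ = _ := by
          refine Finset.sum_congr rfl fun j _ => ?_
          rw [← Finset.sum_mul, choose_hockey, show m + 1 + j - 1 = m + j by omega]

end Groth.Agent.Snapper
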