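import Groth.Agent.Lib.Snapper.Divisor
import Groth.Agent.Lib.Ample18.Avoid
import Groth.Agent.Lib.Ample18.Sections
import Mathlib.RingTheory.LocalRing.Module
import Mathlib.LinearAlgebra.Dual.Lemmas

/-!
# A section of a power of an invertible module as a map to `O` from the inverse
-/

set_option autoImplicit false
set_option linter.style.haveILetI false
set_option backward.isDefEq.respectTransparency false

universe u

open CategoryTheory CategoryTheory.Limits AlgebraicGeometry TopologicalSpace Opposite TensorProduct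

namespace Groth.Agent.Snapper

open Groth.Agent CurveCoh17

section algebra

variable {R : Type u} [CommRing R] [IsLocalRing R]

theorem exists_functional (C : Type u) [AddCommGroup C] [Module R C] [Module.Finite R C] [Nontrivial C] :
    ∃ (ψ : C →ₗ[R] IsLocalRing.ResidueField R) (c : C), ψ c ≠ 0 := by
  haveI : Nontrivial (IsLocalRing.ResidueField R ⊗[R] C) := by
    rw [← not_subsingleton_iff_nontrivial, IsLocalRing.subsingleton_tensorProduct]
    exact not_subsingleton C
  obtain ⟨v, hv⟩ := exists_ne (0 : IsLocalRing.ResidueField R ⊗[R] C)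
  obtain ⟨g, hg⟩ := not_forall.1 (mt (Module.forall_dual_apply_eq_zero_iff (IsLocalRing.ResidueField R) v).1 hv)
  refine ⟨(g.restrictScalars R).comp (TensorProduct.mk R (IsLocalRing.ResidueField R) C 1), ?_⟩
  by_contra h
  push Not at h
  refine hg ?_
  suffices ∀ w, g w = 0 from this v
  intro w
  induction w using TensorProduct.induction_on with
  | zero => exact map_zero g
  | tmul a c =>
    rw [show a ⊗ₜ[R] c = a • ((1 : IsLocalRing.ResidueField R) ⊗ₜ[R] c) by
      rw [TensorProduct.smul_tmul', smul_eq_mul, mul_one], map_smul]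
    exact smul_eq_zero_of_right _ (h c)
  | add y z hy hz => rw [map_add, hy, hz, add_zero]

/-- Surjectivity can be tested after tensoring with a nonzero finite module. -/
theorem surjective_of_rTensor {A B M : Type u} [AddCommGroup A] [Module R A] [AddCommGroup B] [Module R B]
    [Module.Finite R B] [AddCommGroup M] [Module R M] [Module.Finite R M] [Nontrivial M] (f : A →ₗ[R] B)
    (h : Function.Surjective (f.rTensor M)) : Function.Surjective f := by
  rw [← LinearMap.range_eq_top]
  by_contra hne
  haveI : Nontrivial (B ⧸ LinearMap.range f) := Submodule.Quotient.nontrivial_iff.2 hne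
  obtain ⟨ψ, c, hc⟩ := exists_functional (R := R) (B ⧸ LinearMap.range f)
  obtain ⟨ψ', m, hm⟩ := exists_functional (R := R) M
  obtain ⟨b, rfl⟩ := Submodule.Quotient.mk_surjective _ c
  obtain ⟨w, hw⟩ := h (b ⊗ₜ m)
  let μ : B ⊗[R] M →ₗ[R] IsLocalRing.ResidueField R :=
    (LinearMap.mul' R _).comp (TensorProduct.map (ψ.comp (LinearMap.range f).mkQ) ψ')
  have h0 : ∀ w, μ (f.rTensor M w) = 0 := fun w => by
    induction w using TensorProduct.induction_on with
    | zero => simp
    | tmul a m' =>
      have : (LinearMap.range f).mkQ (f a) = 0 := (Submodule.Quotient.mk_eq_zero _).2 ⟨a, rfl⟩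
      simp only [μ, LinearMap.rTensor_tmul, LinearMap.comp_apply, TensorProduct.map_tmul, this, map_zero,
        TensorProduct.zero_tmul]
    | add y z hy hz => rw [map_add, map_add, hy, hz, add_zero]
  have h0 := h0 w
  rw [hw] at h0
  simp only [μ, LinearMap.comp_apply, TensorProduct.map_tmul, LinearMap.mul'_apply] at h0
  exact mul_ne_zero hc hm h0

end algebra

variable {X : Scheme.{u}}

theorem bijective_tensorMap_iff {A B : X.Modules} (f : A ⟶ B) (F : X.Modules) (x : X) :
    Function.Surjective (stalkLin (M2.tensorMap f (𝟙 F)) x) ↔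
      Function.Surjective ((stalkLin f x).rTensor (F.presheaf.stalk x)) := by
  have key : ⇑((stalkLin f x).rTensor (F.presheaf.stalk x)) =
      ⇑(M2.stalkEquiv B F x) ∘ ⇑(stalkLin (M2.tensorMap f (𝟙 F)) x) ∘ ⇑(M2.stalkEquiv A F x).symm :=
    funext fun a => by
      simp only [Function.comp_apply]
      rw [stalkEquiv_natural, LinearEquiv.apply_symm_apply]
  rw [key, EquivLike.comp_surjective, EquivLike.surjective_comp]

theorem surjective_stalkLin_comp_iso {A B C : X.Modules} (f : A ⟶ B) (e : B ≅ C) (x : X) :
    Function.Surjective (stalkLin (f ≫ e.hom) x) ↔ Function.Surjective (stalkLin f x) := by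
  have h : ⇑(stalkLin (f ≫ e.hom) x) = ⇑(stalkLin e.hom x) ∘ ⇑(stalkLin f x) :=
    funext fun a => stalkLin_comp' f e.hom x a
  rw [h]
  exact ⟨fun hs b => (hs (stalkLin e.hom x b)).imp fun a ha => (bijective_stalkLin_iso e x).1 ha,
    fun hs => (bijective_stalkLin_iso e x).2.comp hs⟩

theorem surjective_stalkLin_iso_comp {A B C : X.Modules} (e : A ≅ B) (f : B ⟶ C) (x : X) :
    Function.Surjective (stalkLin (e.hom ≫ f) x) ↔ Function.Surjective (stalkLin f x) := by
  have h : ⇑(stalkLin (e.hom ≫ f) x) = ⇑(stalkLin f x) ∘ ⇑(stalkLin e.hom x) :=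
    funext fun a => stalkLin_comp' e.hom f x a
  rw [h]
  exact ⟨fun hs => hs.of_comp, fun hs => hs.comp (bijective_stalkLin_iso e x).2⟩

theorem surjective_section_iff {P : X.Modules} (hP : PicF.IsInvertible P) (s : Coh.structureModule X ⟶ P)
    (x : X) : Function.Surjective (stalkLin s x) ↔ x ∈ CohB1.genLocus P s := by
  rw [Amp.mem_genLocus_iff hP]
  obtain ⟨t, rfl⟩ : ∃ t, M1.secHom t = s := ⟨_, Amp.secHom_gval s⟩
  rw [Amp.gval_secHom]
  obtain ⟨eP⟩ := nonempty_stalk_equiv ((M2.isInvertible_iff_isFinLocFreeOfRank_one P).1 hP) x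
  have hg : Function.Surjective (stalkLin (M1.secHom t) x) ↔
      Function.Surjective (LinearMap.toSpanSingleton (X.presheaf.stalk x) _ (Amp.gm P x (U := ⊤) trivial t)) := by
    constructor
    · intro hs b
      obtain ⟨a, rfl⟩ := hs b
      obtain ⟨c, -, hc⟩ := stalkLin_secHom t x a
      exact ⟨c, hc.symm⟩
    · intro hs b
      obtain ⟨c, rfl⟩ := hs b
      refine ⟨c • ((Coh.structureModule X).presheaf.germ ⊤ x trivial (M1.one ⊤) :
        (Coh.structureModule X).presheaf.stalk x), ?_⟩
      rw [map_smul, stalkLin_apply, M1.germ_naturality, M1.secHom_app_one]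
      rfl
  rw [hg]
  refine ⟨fun hs => ⟨?_, hs⟩, fun h => h.2⟩
  let T : (Fin 1 → X.presheaf.stalk x) →ₗ[X.presheaf.stalk x] (Fin 1 → X.presheaf.stalk x) :=
    eP.toLinearMap.comp ((LinearMap.toSpanSingleton (X.presheaf.stalk x) _
      (Amp.gm P x (U := ⊤) trivial t)).comp (LinearEquiv.funUnique (Fin 1) (X.presheaf.stalk x) (X.presheaf.stalk x)).toLinearMap)
  have hT : Function.Surjective T := eP.surjective.comp (hs.comp (LinearEquiv.surjective _))
  have hi := OrzechProperty.injective_of_surjective_endomorphism T hT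
  intro a b hab
  have := hi (a₁ := fun _ => a) (a₂ := fun _ => b) (by simpa [T] using congrArg eP hab)
  exact congrFun this 0

/-- The map to `O` from the inverse attached to a section. -/
noncomputable def secMap {P N : X.Modules} (s : Coh.structureModule X ⟶ P)
    (e : CohB1.tensorMod P N ≅ Coh.structureModule X) : N ⟶ Coh.structureModule X :=
  (M2.tensorLUnit N).symm.hom ≫ M2.tensorMap s (𝟙 N) ≫ e.hom

theorem surjective_secMap_iff {P N : X.Modules} (hP : PicF.IsInvertible P) (hN : PicF.IsInvertible N)
    (s : Coh.structureModule X ⟶ P) (e : CohB1.tensorMod P N ≅ Coh.structureModule X) (x : X) :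
    Function.Surjective (stalkLin (secMap s e) x) ↔ x ∈ CohB1.genLocus P s := by
  rw [secMap, surjective_stalkLin_iso_comp, surjective_stalkLin_comp_iso, bijective_tensorMap_iff,
    ← surjective_section_iff hP]
  haveI := M1.finite_stalk (isCoh_of_isInvertible hN).1 (isCoh_of_isInvertible hN).2 x
  haveI := M1.finite_stalk (isCoh_of_isInvertible hP).1 (isCoh_of_isInvertible hP).2 x
  obtain ⟨eN⟩ := nonempty_stalk_equiv ((M2.isInvertible_iff_isFinLocFreeOfRank_one N).1 hN) x
  haveI : Nontrivial (N.presheaf.stalk x) := eN.toEquiv.nontrivial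
  exact ⟨surjective_of_rTensor _, fun h => LinearMap.rTensor_surjective _ h⟩

/-- Where `φ` is not surjective the support of `F` survives in the cokernel of `N ⊗ F ⟶ F`. -/
theorem mem_support_cokernel_mulMap {N : X.Modules} (φ : N ⟶ Coh.structureModule X) {F : X.Modules}
    (hF : Coh.IsCoh F) {x : X} (hx : x ∈ CohB1.support F) (h : ¬ Function.Surjective (stalkLin φ x)) :
    x ∈ CohB1.support (cokernel (mulMap φ F)) := by
  intro hsub
  refine h ?_
  haveI := M1.finite_stalk hF.1 hF.2 x
  haveI : Nontrivial (F.presheaf.stalk x) := not_subsingleton_iff_nontrivial.1 hx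
  haveI : Module.Finite (X.presheaf.stalk x) ((Coh.structureModule X).presheaf.stalk x) :=
    M1.finite_stalk (M1.isQCoh_structureModule X)
      (isCoh_of_isInvertible (PicLoc.isInvertible_structureModule X)).2 x
  refine surjective_of_rTensor (M := F.presheaf.stalk x) _ ((bijective_tensorMap_iff φ F x).1 ?_)
  rw [← surjective_stalkLin_comp_iso _ (M2.tensorLUnit F)]
  intro b
  exact (M1.exact_iff_stalk_eq_zero
    (ShortComplex.mk (mulMap φ F) (cokernel.π (mulMap φ F)) (cokernel.condition _))).1
    (ShortComplex.exact_cokernel _) x b (hsub.elim _ _)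

end Groth.Agent.Snapper
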