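import Groth.Agent.Lib.Snapper.Positive
import Groth.Agent.Lib.Snapper.IntNum
import Groth.Agent.Lib.VarDim.Irred
import Groth.Prelude.Def_ShStab
import Mathlib.RingTheory.Polynomial.Pochhammer

/-!
# Hilbert polynomials with respect to an ample module

Existence, uniqueness, additivity, degree = dimension of the support, positive leading coefficient.
-/

set_option autoImplicit false
set_option linter.style.haveILetI false
set_option backward.isDefEq.respectTransparency false

universe u

open CategoryTheory CategoryTheory.Limits AlgebraicGeometry TopologicalSpace Opposite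
open scoped Polynomial

namespace Groth.Agent.Snapper

open Groth.Agent CurveCoh17

variable {k : Type u} [Field k] {X : Scheme.{u}} [X.Over (Spec (CommRingCat.of k))]
  [IsProper (X ↘ Spec (CommRingCat.of k))]

theorem eval_ascPochhammer_choose (i m : ℕ) :
    (ascPochhammer ℚ i).eval (m : ℚ) = (i.factorial : ℚ) * ((m + i - 1).choose i : ℚ) := by
  rw [← ascPochhammer_eval_cast, ascPochhammer_nat_eq_ascFactorial, Nat.ascFactorial_eq_factorial_mul_choose']
  push_cast
  ring

omit [IsProper (X ↘ Spec (CommRingCat.of k))] in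
/-- Hilbert polynomials are unique. -/
theorem isHilbPoly_unique {L F : X.Modules} {P Q : ℚ[X]} (hP : ShStab.IsHilbPoly k X L F P)
    (hQ : ShStab.IsHilbPoly k X L F Q) : P = Q := by
  refine Polynomial.eq_of_infinite_eval_eq P Q (Set.Infinite.mono ?_ (Set.infinite_range_of_injective
    (f := fun m : ℕ => (m : ℚ)) Nat.cast_injective))
  rintro _ ⟨m, rfl⟩
  exact (hP m).symm.trans (hQ m)

variable (k) in
/-- For `dim supp F ≤ r`: a Hilbert polynomial of degree `≤ r`, whose `X^r` coefficient is positive when the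
dimension is exactly `r` and `L` is ample. -/
theorem exists_isHilbPoly_dim {L F : X.Modules} (hL : PicF.IsInvertible L) (hF : Coh.IsCoh F) {r : ℕ}
    (hr : topologicalKrullDim (CohB1.support F) ≤ (r : WithBot ℕ∞)) :
    ∃ P : ℚ[X], ShStab.IsHilbPoly k X L F P ∧ P.natDegree ≤ r ∧
      (CohB1.IsAmple L → 0 ≤ P.coeff r ∧
        (topologicalKrullDim (CohB1.support F) = (r : WithBot ℕ∞) → 0 < P.coeff r)) := by
  obtain ⟨M, hM, ⟨e⟩⟩ := M2.exists_inverse hL
  let c : ℕ → ℤ := fun i => alt (chi k (fun _ : Fin i => M) F)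
  refine ⟨∑ i ∈ Finset.range (r + 1), Polynomial.C ((c i : ℚ) / i.factorial) * ascPochhammer ℚ i,
    fun m => ?_, ?_, fun hA => ?_⟩
  · rw [Polynomial.eval_finsetSum, ShStab.twist, CurveCoh17.euler_iso (M2.tensorComm _ _),
      euler_tensorPow_eq_sum hL hM e r m F hF hr]
    push_cast
    refine Finset.sum_congr rfl fun i _ => ?_
    rw [Polynomial.eval_mul, Polynomial.eval_C, eval_ascPochhammer_choose, ← mul_assoc,
      div_mul_cancel₀ _ (Nat.cast_ne_zero.2 i.factorial_ne_zero)]
    exact mul_comm _ _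
  · refine Polynomial.natDegree_sum_le_of_forall_le _ _ fun i hi => ?_
    refine (Polynomial.natDegree_C_mul_le _ _).trans ?_
    rw [ascPochhammer_natDegree]
    exact Nat.le_of_lt_succ (Finset.mem_range.1 hi)
  · have hco : (∑ i ∈ Finset.range (r + 1), Polynomial.C ((c i : ℚ) / i.factorial) *
        ascPochhammer ℚ i).coeff r = (c r : ℚ) / r.factorial := by
      rw [Polynomial.finsetSum_coeff, Finset.sum_range_succ, Finset.sum_eq_zero fun i hi => ?_, zero_add,
        Polynomial.coeff_C_mul]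
      · have h1 := (monic_ascPochhammer ℚ r).coeff_natDegree
        rw [ascPochhammer_natDegree] at h1
        rw [h1, mul_one]
      · rw [Polynomial.coeff_C_mul, Polynomial.coeff_eq_zero_of_natDegree_lt
          (by rw [ascPochhammer_natDegree]; exact Finset.mem_range.1 hi), mul_zero]
    obtain ⟨h0, hp⟩ := pos (k := k) r (fun _ => L) (fun _ => M) (fun _ => hA) (fun _ => ⟨e⟩) F hF hr
    rw [hco]
    exact ⟨div_nonneg (Int.cast_nonneg h0) (Nat.cast_nonneg _),
      fun h => div_pos (Int.cast_pos.2 (hp h)) (Nat.cast_pos.2 r.factorial_pos)⟩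

variable (k X) in
include k in
theorem exists_dim_le : ∃ n : ℕ, topologicalKrullDim X ≤ (n : WithBot ℕ∞) := by
  rcases isEmpty_or_nonempty X with h | h
  · haveI : IsEmpty (IrreducibleCloseds X) := ⟨fun c => IsEmpty.false c.isIrreducible.nonempty.some⟩
    exact ⟨0, by rw [topologicalKrullDim, Order.krullDim_eq_bot]; exact bot_le⟩
  · obtain ⟨x, hx, -⟩ := VarDim.exists_dim_eq (k := k) (X ↘ Spec (CommRingCat.of k))
    exact ⟨_, hx.le⟩

variable (k) in
include k in
/-- The support of a nonzero coherent module has a natural number as dimension. -/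
theorem exists_dim_support {F : X.Modules} (hne : ¬ IsZero F) :
    ∃ d : ℕ, topologicalKrullDim (CohB1.support F) = (d : WithBot ℕ∞) := by
  obtain ⟨n, hn⟩ := exists_dim_le k X
  obtain ⟨x, hx⟩ : (CohB1.support F).Nonempty := Set.nonempty_iff_ne_empty.2 fun h =>
    hne (isZero_of_support_empty h)
  haveI : Nonempty (CohB1.support F) := ⟨⟨x, hx⟩⟩
  haveI : Nonempty (IrreducibleCloseds (CohB1.support F)) :=
    ⟨⟨closure {Classical.arbitrary _}, isIrreducible_singleton.closure, isClosed_closure⟩⟩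
  have h1 := (Topology.IsInducing.subtypeVal (t := CohB1.support F)).topologicalKrullDim_le.trans hn
  have h0 : (0 : WithBot ℕ∞) ≤ topologicalKrullDim (CohB1.support F) := Order.krullDim_nonneg
  generalize topologicalKrullDim (CohB1.support F) = a at h0 h1 ⊢
  induction a using WithBot.recBotCoe with
  | bot => exact absurd h0 (by simp)
  | coe a =>
    induction a using ENat.recTopCoe with
    | top =>
      rw [show ((n : ℕ) : WithBot ℕ∞) = (((n : ℕ) : ℕ∞) : WithBot ℕ∞) from rfl, WithBot.coe_le_coe] at h1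
      exact absurd (top_le_iff.1 h1) (ENat.natCast_ne_top n)
    | coe a => exact ⟨a, rfl⟩

variable (k) in
/-- Hilbert polynomials exist. -/
theorem exists_isHilbPoly {L F : X.Modules} (hL : PicF.IsInvertible L) (hF : Coh.IsCoh F) :
    ∃ P : ℚ[X], ShStab.IsHilbPoly k X L F P := by
  obtain ⟨n, hn⟩ := exists_dim_le k X
  obtain ⟨P, hP, -⟩ := exists_isHilbPoly_dim k hL hF (r := n)
    ((Topology.IsInducing.subtypeVal (t := CohB1.support F)).topologicalKrullDim_le.trans hn)
  exact ⟨P, hP⟩

theorem natDegree_isHilbPoly_le {L F : X.Modules} (hL : PicF.IsInvertible L) (hF : Coh.IsCoh F) {r : ℕ}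
    (hr : topologicalKrullDim (CohB1.support F) ≤ (r : WithBot ℕ∞)) {P : ℚ[X]}
    (hP : ShStab.IsHilbPoly k X L F P) : P.natDegree ≤ r := by
  obtain ⟨Q, hQ, hQd, -⟩ := exists_isHilbPoly_dim k hL hF hr
  exact isHilbPoly_unique hQ hP ▸ hQd

theorem coeff_isHilbPoly_nonneg {L F : X.Modules} (hL : CohB1.IsAmple L) (hF : Coh.IsCoh F) {r : ℕ}
    (hr : topologicalKrullDim (CohB1.support F) ≤ (r : WithBot ℕ∞)) {P : ℚ[X]}
    (hP : ShStab.IsHilbPoly k X L F P) : 0 ≤ P.coeff r := by
  obtain ⟨Q, hQ, -, hQc⟩ := exists_isHilbPoly_dim k hL.1 hF hr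
  exact isHilbPoly_unique hQ hP ▸ (hQc hL).1

theorem coeff_isHilbPoly_pos {L F : X.Modules} (hL : CohB1.IsAmple L) (hF : Coh.IsCoh F) {d : ℕ}
    (hd : topologicalKrullDim (CohB1.support F) = (d : WithBot ℕ∞)) {P : ℚ[X]}
    (hP : ShStab.IsHilbPoly k X L F P) : 0 < P.coeff d := by
  obtain ⟨Q, hQ, -, hQc⟩ := exists_isHilbPoly_dim k hL.1 hF hd.le
  exact isHilbPoly_unique hQ hP ▸ (hQc hL).2 hd

theorem alpha_isHilbPoly_pos {L F : X.Modules} (hL : CohB1.IsAmple L) (hF : Coh.IsCoh F) {d : ℕ}
    (hd : topologicalKrullDim (CohB1.support F) = (d : WithBot ℕ∞)) {P : ℚ[X]}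
    (hP : ShStab.IsHilbPoly k X L F P) : 0 < StabCat.alpha d P :=
  mul_pos (Nat.cast_pos.2 d.factorial_pos) (coeff_isHilbPoly_pos hL hF hd hP)

/-- The degree of the Hilbert polynomial is the dimension of the support. -/
theorem natDegree_isHilbPoly {L F : X.Modules} (hL : CohB1.IsAmple L) (hF : Coh.IsCoh F) {d : ℕ}
    (hd : topologicalKrullDim (CohB1.support F) = (d : WithBot ℕ∞)) {P : ℚ[X]}
    (hP : ShStab.IsHilbPoly k X L F P) : P.natDegree = d :=
  le_antisymm (natDegree_isHilbPoly_le hL.1 hF hd.le hP)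
    (Polynomial.le_natDegree_of_ne_zero (coeff_isHilbPoly_pos hL hF hd hP).ne')

theorem leadingCoeff_isHilbPoly_pos {L F : X.Modules} (hL : CohB1.IsAmple L) (hF : Coh.IsCoh F)
    (hne : ¬ IsZero F) {P : ℚ[X]} (hP : ShStab.IsHilbPoly k X L F P) : 0 < P.leadingCoeff := by
  obtain ⟨d, hd⟩ := exists_dim_support k hne
  rw [Polynomial.leadingCoeff, natDegree_isHilbPoly hL hF hd hP]
  exact coeff_isHilbPoly_pos hL hF hd hP

theorem isHilbPoly_eq_zero_iff {L F : X.Modules} (hL : CohB1.IsAmple L) (hF : Coh.IsCoh F) {P : ℚ[X]}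
    (hP : ShStab.IsHilbPoly k X L F P) : P = 0 ↔ IsZero F := by
  refine ⟨fun h => by_contra fun hne => ?_, fun h => isHilbPoly_unique hP fun m => ?_⟩
  · have := leadingCoeff_isHilbPoly_pos hL hF hne hP
    rw [h, Polynomial.leadingCoeff_zero] at this
    exact this.false
  · have hz : IsZero (ShStab.twist X L F m) := by
      refine isZero_of_support_empty (Set.subset_empty_iff.1 ((support_tensor_subset F _).trans ?_))
      intro x hx
      have h0 : ∀ a : F.presheaf.stalk x, a = 0 := fun a => by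
        obtain ⟨U, hxU, s, rfl⟩ := TopCat.Presheaf.exists_germ_eq F.presheaf a
        have hs : (Scheme.Modules.Hom.app (𝟙 F) U) s = s := by simp
        rw [h.eq_of_src (𝟙 F) 0] at hs
        rw [← hs]
        simp
      exact hx ⟨fun a b => (h0 a).trans (h0 b).symm⟩
    have hc := CurveCoh17.isCoh_tensor hF (isCoh_of_isInvertible (M2.isInvertible_tensorPow hL.1 m))
    rw [show ShStab.twist X L F m = CohB1.tensorMod F (CohB1.tensorPow L m) from rfl] at hz ⊢
    rw [euler_of_isZero hc hz]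
    simp

/-- Additivity in short exact sequences. -/
theorem isHilbPoly_add {L : X.Modules} (hL : PicF.IsInvertible L) {S : ShortComplex X.Modules}
    (hS : S.ShortExact) (h1 : Coh.IsCoh S.X₁) (h2 : Coh.IsCoh S.X₂) (h3 : Coh.IsCoh S.X₃) {P₁ P₃ : ℚ[X]}
    (hP₁ : ShStab.IsHilbPoly k X L S.X₁ P₁) (hP₃ : ShStab.IsHilbPoly k X L S.X₃ P₃) :
    ShStab.IsHilbPoly k X L S.X₂ (P₁ + P₃) := fun m => by
  rw [Polynomial.eval_add, ← hP₁ m, ← hP₃ m]
  exact_mod_cast euler_tensor_add (k := k) hS h1 h2 h3 (M2.isInvertible_tensorPow hL m)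

omit [IsProper (X ↘ Spec (CommRingCat.of k))] in
theorem isHilbPoly_iso {L F G : X.Modules} (e : F ≅ G) {P : ℚ[X]} (hP : ShStab.IsHilbPoly k X L F P) :
    ShStab.IsHilbPoly k X L G P := fun m => by
  rw [← hP m]
  exact_mod_cast CurveCoh17.euler_iso (M2.tensorIso e.symm (Iso.refl _))

end Groth.Agent.Snapper
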