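import Groth.Agent.Lib.Snapper.IntNum
import Groth.Agent.Lib.WeakAss18.Iso
import Groth.Agent.Lib.NegTwist18.Main
import Groth.Agent.Lib.TensorMod.IdealMod
import Groth.Agent.Lib.TensorMod.InvCrit

/-!
# Intersection numbers: cutting by a divisor, permutations
-/

set_option autoImplicit false
set_option linter.style.haveILetI false
set_option backward.isDefEq.respectTransparency false

universe u

open CategoryTheory CategoryTheory.Limits AlgebraicGeometry TopologicalSpace Opposite TensorProduct

namespace Groth.Agent.Snapper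

open Groth.Agent CurveCoh17

variable {X : Scheme.{u}}

/-- The map `N ⊗ F ⟶ F` of a map `N ⟶ O`. -/
noncomputable def mulMap {N : X.Modules} (φ : N ⟶ Coh.structureModule X) (F : X.Modules) :
    CohB1.tensorMod N F ⟶ F :=
  M2.tensorMap φ (𝟙 F) ≫ (M2.tensorLUnit F).hom

theorem stalkLin_comp' {A B C : X.Modules} (f : A ⟶ B) (g : B ⟶ C) (x : X) (a : A.presheaf.stalk x) :
    stalkLin (f ≫ g) x a = stalkLin g x (stalkLin f x a) := CurveCoh17.stalkLin_comp f g x a

theorem bijective_stalkLin_iso {A B : X.Modules} (e : A ≅ B) (x : X) :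
    Function.Bijective (stalkLin e.hom x) :=
  (ConcreteCategory.isIso_iff_bijective ((M1.stalkAb x).map e.hom)).1 inferInstance

theorem bijective_mulMap_stalk {N : X.Modules} (hN : PicF.IsInvertible N) (φ : N ⟶ Coh.structureModule X)
    (F : X.Modules) (x : X) (hx : Function.Surjective (stalkLin φ x)) :
    Function.Bijective (stalkLin (mulMap φ F) x) := by
  obtain ⟨eN⟩ := nonempty_stalk_equiv ((M2.isInvertible_iff_isFinLocFreeOfRank_one N).1 hN) x
  obtain ⟨eO⟩ := nonempty_stalk_equiv
    ((M2.isInvertible_iff_isFinLocFreeOfRank_one _).1 (PicLoc.isInvertible_structureModule X)) x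
  have hbij : Function.Bijective (stalkLin φ x) := by
    let T : (N.presheaf.stalk x) →ₗ[X.presheaf.stalk x] (N.presheaf.stalk x) :=
      (eO.trans eN.symm).toLinearMap.comp (stalkLin φ x)
    haveI : Module.Finite (X.presheaf.stalk x) (N.presheaf.stalk x) := Module.Finite.equiv eN.symm
    have hT : Function.Surjective T := (eO.trans eN.symm).surjective.comp hx
    have := OrzechProperty.injective_of_surjective_endomorphism T hT
    exact ⟨Function.Injective.of_comp (f := (eO.trans eN.symm)) this, hx⟩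
  have h1 : Function.Bijective (stalkLin (M2.tensorMap φ (𝟙 F)) x) := by
    let e := LinearEquiv.rTensor (F.presheaf.stalk x) (LinearEquiv.ofBijective (stalkLin φ x) hbij)
    have key : ⇑(stalkLin (M2.tensorMap φ (𝟙 F)) x) =
        ⇑(M2.stalkEquiv (Coh.structureModule X) F x).symm ∘ ⇑e ∘ ⇑(M2.stalkEquiv N F x) := funext fun a => by
      refine (M2.stalkEquiv _ F x).injective ?_
      rw [stalkEquiv_natural]
      simp only [Function.comp_apply, LinearEquiv.apply_symm_apply]
      rfl
    rw [key]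
    exact (M2.stalkEquiv _ F x).symm.bijective.comp (e.bijective.comp (M2.stalkEquiv N F x).bijective)
  have h2 : ⇑(stalkLin (mulMap φ F) x) =
      ⇑(stalkLin (M2.tensorLUnit F).hom x) ∘ ⇑(stalkLin (M2.tensorMap φ (𝟙 F)) x) :=
    funext fun a => stalkLin_comp' _ _ x a
  rw [h2]
  exact (bijective_stalkLin_iso _ x).comp h1

theorem isWeakAssPoint_of_tensor_left {N : X.Modules} (hN : PicF.IsInvertible N) {F : X.Modules} {x : X}
    (h : Curv2.IsWeakAssPoint (CohB1.tensorMod N F) x) : Curv2.IsWeakAssPoint F x := by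
  have h' : Curv2.IsAssPoint (CohB1.tensorMod N F) x := (WA.isAssPoint_iff x).2 h
  have hinj := (bijective_stalkLin_iso (M2.tensorComm N F) x).1
  have h'' : Curv2.IsAssPoint (CohB1.tensorMod F N) x :=
    IsAssociatedPrime.map_of_injective (f := stalkLin (M2.tensorComm N F).hom x) h' hinj
  exact (WA.isAssPoint_iff x).1 (NegTwist18.isAssPoint_of_tensor hN h'')

/-- A map `N ⟶ O` from an invertible module which is surjective at the associated points of `F` gives an
injection `N ⊗ F ⟶ F`. -/
theorem mono_mulMap {N : X.Modules} (hN : PicF.IsInvertible N) (φ : N ⟶ Coh.structureModule X)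
    {F : X.Modules} (hF : Coh.IsQCoh F)
    (h : ∀ y, Curv2.IsWeakAssPoint F y → Function.Surjective (stalkLin φ y)) : Mono (mulMap φ F) := by
  have hNF : Coh.IsQCoh (CohB1.tensorMod N F) := M2.isQCoh_tensor (isCoh_of_isInvertible hN).1 hF
  haveI : Coh.IsQCoh (kernel (mulMap φ F)) := M1.isQCoh_kernel hNF hF _
  have hno : ∀ x, ¬ Curv2.IsWeakAssPoint (kernel (mulMap φ F)) x := by
    rintro x ⟨m, hm⟩
    have hm0 := WA.ne_zero_of_radical_ann hm
    let n := stalkLin (kernel.ι (mulMap φ F)) x m
    have hn0 : n ≠ 0 := fun h0 => hm0 ((M1.mono_iff_stalk (kernel.ι (mulMap φ F))).1 inferInstance x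
      (h0.trans (map_zero (stalkLin (kernel.ι (mulMap φ F)) x)).symm))
    have hxF : Curv2.IsWeakAssPoint F x := isWeakAssPoint_of_tensor_left hN <| by
      refine WA.isWeakAssPoint_of_elem n hn0 fun z hz => ?_
      obtain ⟨j, hj⟩ := WA.exists_pow_smul_eq_zero hm hz
      exact ⟨j, by rw [← map_smul, hj, map_zero]⟩
    exact hm0 (eq_zero_stalk_kernel _ x (bijective_mulMap_stalk hN φ F x (h x hxF)).1 m)
  have hz : IsZero (kernel (mulMap φ F)) := isZero_of_support_empty
    (Set.eq_empty_of_forall_notMem fun x hx => hx ⟨fun a b =>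
      (WA.subsingleton_stalk_of_no_weakAss hno x a).trans (WA.subsingleton_stalk_of_no_weakAss hno x b).symm⟩)
  exact Preadditive.mono_of_kernel_zero (hz.eq_of_src _ _)

theorem surjective_of_notMem_support {N : X.Modules} (φ : N ⟶ Coh.structureModule X) {C : X.Modules}
    (π : Coh.structureModule X ⟶ C) (w : φ ≫ π = 0) (hex : (ShortComplex.mk φ π w).Exact) {x : X}
    (hx : x ∉ CohB1.support C) : Function.Surjective (stalkLin φ x) := fun b => by
  obtain ⟨a, ha⟩ := (M1.exact_iff_stalk_eq_zero _).1 hex x b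
    (CurveCoh17.stalk_eq_zero_of_notMem_support hx _)
  exact ⟨a, ha⟩

section alt

variable {k : Type u} [Field k] [X.Over (Spec (CommRingCat.of k))]
  [IsProper (X ↘ Spec (CommRingCat.of k))]

theorem alt_chi_add {r : ℕ} {M : Fin r → X.Modules} (hM : ∀ i, PicF.IsInvertible (M i))
    {S : ShortComplex X.Modules} (hS : S.ShortExact) (h1 : Coh.IsCoh S.X₁) (h2 : Coh.IsCoh S.X₂)
    (h3 : Coh.IsCoh S.X₃) :
    alt (chi k M S.X₂) = alt (chi k M S.X₁) + alt (chi k M S.X₃) := by
  simp only [alt, chi, ← Finset.sum_add_distrib, ← mul_add]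
  refine Finset.sum_congr rfl fun b _ => ?_
  rw [euler_tensor_add hS h1 h2 h3 (isInvertible_multiTwist hM _)]

/-- Cutting by the vanishing locus of a map from an invertible module to `O`. -/
theorem alt_chi_cons_cokernel {r : ℕ} {M : Fin r → X.Modules} (hM : ∀ i, PicF.IsInvertible (M i))
    {N : X.Modules} (hN : PicF.IsInvertible N) (φ : N ⟶ Coh.structureModule X) {F : X.Modules}
    (hF : Coh.IsCoh F) [Mono (mulMap φ F)] :
    alt (chi k (Fin.cons N M) F) = alt (chi k M (cokernel (mulMap φ F))) := by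
  haveI : IsNoetherian X := CohFound.isNoetherian_of_isProper (X ↘ (Spec (CommRingCat.of k)))
  have hNF := isCoh_tensor (isCoh_of_isInvertible hN) hF
  have hS : (ShortComplex.mk (mulMap φ F) (cokernel.π (mulMap φ F)) (cokernel.condition _)).ShortExact :=
    CohFound.shortExact_cokernel _
  have h := alt_chi_add (k := k) hM hS hNF hF (M1.isCoh_cokernel hNF.1 hF _)
  rw [alt_chi_cons]
  linarith

theorem multiTwist_perm {r : ℕ} (σ : Equiv.Perm (Fin r)) (M : Fin r → X.Modules) (m : Fin r → ℕ) :
    Nonempty (FGA.multiTwist (M ∘ σ) (m ∘ σ) ≅ FGA.multiTwist M m) := by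
  have h := (σ.map_finRange_perm).map fun i => CohB1.tensorPow (M i) (m i)
  rw [List.map_map] at h
  exact nonempty_tensorList_perm h

/-- The order of the slots does not matter. -/
theorem alt_chi_perm {r : ℕ} (σ : Equiv.Perm (Fin r)) (M : Fin r → X.Modules) (F : X.Modules) :
    alt (chi k (M ∘ σ) F) = alt (chi k M F) := by
  simp only [alt]
  rw [← (Equiv.arrowCongr σ.symm (Equiv.refl Bool)).sum_comp]
  refine Finset.sum_congr rfl fun b _ => ?_
  have hb : ((Equiv.arrowCongr σ.symm (Equiv.refl Bool)) b) = b ∘ σ := by funext i; simp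
  rw [hb]
  congr 1
  · exact Equiv.prod_comp σ (fun i => if b i then (-1 : ℤ) else 1)
  · obtain ⟨e⟩ := multiTwist_perm σ M (fun i => (b i).toNat)
    exact CurveCoh17.euler_iso (M2.tensorIso (Iso.refl F) e)

theorem alt_chi_snoc {r : ℕ} (M : Fin r → X.Modules) (A F : X.Modules) :
    alt (chi k (Fin.snoc M A) F) = alt (chi k (Fin.cons A M) F) := by
  rw [← alt_chi_perm (finRotate (r + 1)) (Fin.cons A M)]
  congr 2
  exact Fin.snoc_eq_cons_rotate _ _

end alt

/-- Cokernel of tensoring the ideal inclusion. -/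
theorem nonempty_cokernel_ideal_iso [IsLocallyNoetherian X] (D : X.IdealSheafData) (F : X.Modules)
    [Mono (mulMap (ClSub.idealModι D) F)] :
    Nonempty (cokernel (mulMap (ClSub.idealModι D) F) ≅ CohB1.tensorMod F (ClSub.quotMod D)) := by
  let S := ShortComplex.mk (ClSub.idealModι D) (ClSub.toSubscheme D) (kernel.condition _)
  have hS : S.ShortExact := M2.shortExact_idealMod D
  haveI := hS.epi_g
  haveI : Mono (M2.tensorMap (ClSub.idealModι D) (𝟙 F)) :=
    mono_of_mono_fac (show M2.tensorMap (ClSub.idealModι D) (𝟙 F) ≫ (M2.tensorLUnit F).hom = mulMap (ClSub.idealModι D) F from rfl)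
  let T := S.map (M2.tensorR F)
  have hexT : T.Exact := by
    rw [M1.exact_iff_stalk_eq_zero]
    intro x b hb
    have hex : Function.Exact (stalkLin S.f x) (stalkLin S.g x) := by
      intro c
      refine ⟨fun hc => (M1.exact_iff_stalk_eq_zero S).1 hS.exact x c hc, ?_⟩
      rintro ⟨a, rfl⟩
      rw [← stalkLin_comp', S.zero]
      show (M1.stalkAb x).map (0 : S.X₁ ⟶ S.X₃) a = 0
      rw [Functor.map_zero]
      rfl
    have hsurj : Function.Surjective (stalkLin S.g x) := (M1.epi_iff_stalk S.g).1 inferInstance x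
    have hex' := rTensor_exact (F.presheaf.stalk x) hex hsurj
    have h0 : LinearMap.rTensor (F.presheaf.stalk x) (stalkLin S.g x) (M2.stalkEquiv S.X₂ F x b) = 0 := by
      rw [← stalkEquiv_natural]
      exact (congrArg _ hb).trans (map_zero _)
    obtain ⟨c, hc⟩ := (hex' _).1 h0
    obtain ⟨a, rfl⟩ := (M2.stalkEquiv S.X₁ F x).surjective c
    refine ⟨a, (M2.stalkEquiv S.X₂ F x).injective ?_⟩
    rw [← hc]
    exact stalkEquiv_natural S.f F x a
  haveI : Epi (M2.tensorMap (ClSub.toSubscheme D) (𝟙 F)) := by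
    refine (M1.epi_iff_stalk _).2 fun x b => ?_
    have hsurj : Function.Surjective (stalkLin S.g x) := (M1.epi_iff_stalk S.g).1 inferInstance x
    obtain ⟨c, hc⟩ := LinearMap.rTensor_surjective (F.presheaf.stalk x) hsurj (M2.stalkEquiv S.X₃ F x b)
    obtain ⟨a, rfl⟩ := (M2.stalkEquiv S.X₂ F x).surjective c
    refine ⟨a, (M2.stalkEquiv S.X₃ F x).injective ?_⟩
    rw [← hc]
    exact stalkEquiv_natural S.g F x a
  haveI : Epi T.g := inferInstanceAs (Epi (M2.tensorMap (ClSub.toSubscheme D) (𝟙 F)))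
  let i₁ : cokernel T.f ≅ T.X₃ := (cokernelIsCokernel T.f).coconePointUniqueUpToIso hexT.gIsCokernel
  let i₂ : cokernel (mulMap (ClSub.idealModι D) F) ≅ cokernel T.f :=
    cokernelCompIsIso (M2.tensorMap (ClSub.idealModι D) (𝟙 F)) (M2.tensorLUnit F).hom
  exact ⟨i₂ ≪≫ i₁ ≪≫ M2.tensorComm _ F⟩

end Groth.Agent.Snapper
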