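import Groth.Agent.Lib.Snapper.Section
import Groth.Agent.Lib.CohFound.DevissageExt
import Groth.Agent.Lib.CurveCoh17.Vanish
import Groth.Agent.Lib.WeakAss18.Push
import Groth.Agent.Lib.VarDim.Scheme

/-!
# Positivity of intersection numbers of ample modules
-/

set_option autoImplicit false
set_option linter.style.haveILetI false
set_option backward.isDefEq.respectTransparency false
set_option maxHeartbeats 800000

universe u

open CategoryTheory CategoryTheory.Limits AlgebraicGeometry TopologicalSpace Opposite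

namespace Groth.Agent.Snapper

open Groth.Agent CurveCoh17

variable {X : Scheme.{u}}

theorem nonempty_tensorPow_unit : ∀ n : ℕ,
    Nonempty (CohB1.tensorPow (Coh.structureModule X) n ≅ Coh.structureModule X)
  | 0 => ⟨Iso.refl _⟩
  | n + 1 => by
    obtain ⟨e⟩ := nonempty_tensorPow_unit n
    exact ⟨M2.tensorIso e (Iso.refl _) ≪≫ M2.tensorLUnit _⟩

theorem le_of_lt_natCast_succ {a : WithBot ℕ∞} {n : ℕ} (h : a < ((n + 1 : ℕ) : WithBot ℕ∞)) :
    a ≤ (n : WithBot ℕ∞) := by
  induction a using WithBot.recBotCoe with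
  | bot => exact bot_le
  | coe a =>
    rw [show ((n + 1 : ℕ) : WithBot ℕ∞) = (((n + 1 : ℕ) : ℕ∞) : WithBot ℕ∞) from rfl, WithBot.coe_lt_coe] at h
    rw [show ((n : ℕ) : WithBot ℕ∞) = (((n : ℕ) : ℕ∞) : WithBot ℕ∞) from rfl, WithBot.coe_le_coe]
    induction a using ENat.recTopCoe with
    | top => exact absurd h not_top_lt
    | coe a => exact Nat.cast_le.2 (Nat.le_of_lt_succ (Nat.cast_lt.1 h))

theorem length_le_of_subset_range {α β : Type*} [TopologicalSpace α] [TopologicalSpace β] {f : α → β}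
    (hf : Topology.IsInducing f) {n : ℕ} (q : Fin (n + 1) → IrreducibleCloseds β) (hq : StrictMono q)
    (hsub : ∀ j, (q j : Set β) ⊆ Set.range f) : (n : WithBot ℕ∞) ≤ topologicalKrullDim α := by
  let g : Fin (n + 1) → IrreducibleCloseds α := fun j =>
    ⟨f ⁻¹' (q j : Set β), ⟨by
      obtain ⟨y, hy⟩ := (q j).isIrreducible.nonempty
      obtain ⟨a, rfl⟩ := hsub j hy
      exact ⟨a, hy⟩, fun u v hu hv hau hav => by
      obtain ⟨u', hu', rfl⟩ := hf.isOpen_iff.1 hu
      obtain ⟨v', hv', rfl⟩ := hf.isOpen_iff.1 hv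
      obtain ⟨a, ha, hau'⟩ := hau
      obtain ⟨b, hb, hbv'⟩ := hav
      obtain ⟨y, hy, hyu, hyv⟩ := (q j).isIrreducible.isPreirreducible u' v' hu' hv' ⟨f a, ha, hau'⟩
        ⟨f b, hb, hbv'⟩
      obtain ⟨c, rfl⟩ := hsub j hy
      exact ⟨c, hy, hyu, hyv⟩⟩, (q j).isClosed.preimage hf.continuous⟩
  have hg : StrictMono g := by
    intro i j hij
    refine lt_of_le_not_ge (fun a ha => (hq.monotone hij.le) ha) fun hle => (hq hij).not_ge fun y hy => ?_
    obtain ⟨a, rfl⟩ := hsub j hy
    exact hle hy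
  exact Order.LTSeries.length_le_krullDim (LTSeries.mk n g hg)

theorem dim_union_le {A B : Set X} (hA : IsClosed A) (hB : IsClosed B) {d : WithBot ℕ∞}
    (h₁ : topologicalKrullDim A ≤ d) (h₂ : topologicalKrullDim B ≤ d) :
    topologicalKrullDim (A ∪ B : Set X) ≤ d := by
  have key : ∀ {C : Set X}, ∀ hC : C ⊆ A ∪ B, topologicalKrullDim C ≤ d →
      ∀ p : LTSeries (IrreducibleCloseds (A ∪ B : Set X)),
        (p.last : Set (A ∪ B : Set X)) ⊆ Subtype.val ⁻¹' C → (p.length : WithBot ℕ∞) ≤ d := by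
    intro C hC hd p hp
    refine (length_le_of_subset_range (Topology.IsEmbedding.inclusion hC).isInducing p p.strictMono
      fun j => ?_).trans hd
    rw [Set.range_inclusion]
    exact fun y hy => hp ((p.monotone (Fin.le_last j)) hy)
  refine iSup_le fun p => ?_
  rcases isPreirreducible_iff_isClosed_union_isClosed.1 p.last.isIrreducible.isPreirreducible
    (Subtype.val ⁻¹' A) (Subtype.val ⁻¹' B) (hA.preimage continuous_subtype_val)
    (hB.preimage continuous_subtype_val) (fun y _ => y.2) with h | h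
  · exact key Set.subset_union_left h₁ p h
  · exact key Set.subset_union_right h₂ p h

theorem exists_closed_of_dim_eq {η : X} {r : ℕ}
    (hd : topologicalKrullDim (closure ({η} : Set X)) = ((r + 1 : ℕ) : WithBot ℕ∞)) :
    ∃ C : Set X, IsClosed C ∧ C ⊆ closure {η} ∧ η ∉ C ∧ topologicalKrullDim C = (r : WithBot ℕ∞) := by
  obtain ⟨p, hp⟩ := Order.le_krullDim_iff.1 hd.ge
  let i : Fin (p.length + 1) := ⟨r, by omega⟩
  have hi : i < Fin.last p.length := by simp [i, Fin.lt_def, hp]
  let C : Set X := Subtype.val '' (p i : Set (closure ({η} : Set X)))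
  have hCc : IsClosed C := isClosed_closure.isClosedEmbedding_subtypeVal.isClosedMap _ (p i).isClosed
  have hsub : C ⊆ closure {η} := Subtype.coe_image_subset _ _
  have hη : η ∉ C := by
    rintro ⟨y, hy, hyη⟩
    refine (p.strictMono hi).not_ge fun z _ => ?_
    have h1 : closure ({y} : Set (closure ({η} : Set X))) ⊆ (p i : Set _) :=
      closure_minimal (Set.singleton_subset_iff.2 hy) (p i).isClosed
    refine h1 ?_
    rw [Topology.IsInducing.subtypeVal.closure_eq_preimage_closure_image, Set.mem_preimage,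
      Set.image_singleton, hyη]
    exact z.2
  refine ⟨C, hCc, hsub, hη, le_antisymm (dim_le_of_notMem hCc hsub hη hd.le) ?_⟩
  refine length_le_of_subset_range (Topology.IsEmbedding.inclusion hsub).isInducing (n := r)
    (fun j => p ⟨j.1, by omega⟩) (fun a b h => p.strictMono (show (⟨a.1, _⟩ : Fin (p.length + 1)) < ⟨b.1, _⟩ from h))
    fun j => ?_
  rw [Set.range_inclusion]
  exact fun y hy => ⟨y, (p.monotone (show (⟨j.1, by omega⟩ : Fin (p.length + 1)) ≤ i from
    Fin.mk_le_mk.2 (Nat.le_of_lt_succ j.2))) hy, rfl⟩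

theorem dim_empty : topologicalKrullDim (∅ : Set X) = (⊥ : WithBot ℕ∞) := by
  haveI : IsEmpty (IrreducibleCloseds (∅ : Set X)) :=
    ⟨fun c => IsEmpty.false c.isIrreducible.nonempty.some⟩
  exact Order.krullDim_eq_bot

variable {k : Type u} [Field k] [X.Over (Spec (CommRingCat.of k))]
  [IsProper (X ↘ Spec (CommRingCat.of k))]

theorem isClosed_point_of_dim_le_zero {C : Set X} (hC : IsClosed C) (hd : topologicalKrullDim C ≤ 0) {x : X}
    (hx : x ∈ C) : IsClosed ({x} : Set X) := by
  refine closure_subset_iff_isClosed.1 fun y hy => ?_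
  by_contra hne
  have hyx : x ⤳ y := specializes_iff_mem_closure.2 hy
  have hyC : y ∈ C := hyx.mem_closed hC hx
  have he := eq_empty_of_notMem (C := closure {y}) isClosed_closure (η := x)
    (closure_minimal (Set.singleton_subset_iff.2 hy) isClosed_closure)
    (fun h => hne ((specializes_iff_mem_closure.2 h).antisymm hyx).eq)
    ((dim_le_of_subset (hC.closure_subset_iff.2 (Set.singleton_subset_iff.2 hx)) hd))
  exact (Set.eq_empty_iff_forall_notMem.1 he y) (subset_closure rfl)

theorem euler_pos_of_dim_zero {F : X.Modules} (hF : Coh.IsCoh F)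
    (hd : topologicalKrullDim (CohB1.support F) ≤ 0) (hne : (CohB1.support F).Nonempty) :
    0 < Curv2.euler k X F := by
  classical
  haveI : IsNoetherian X := CohFound.isNoetherian_of_isProper (X ↘ (Spec (CommRingCat.of k)))
  have hC := M1.isClosed_support hF.2
  obtain ⟨G, hG⟩ := VarDim.exists_finite_generic hC
  have hGS : ∀ x, x ∈ CohB1.support F → x ∈ G := fun x hx => by
    obtain ⟨g, hg, hgx⟩ := (hG x).1 hx
    have hgC : g ∈ CohB1.support F := (hG g).2 ⟨g, hg, specializes_rfl⟩
    have := hgx.mem_closed (isClosed_point_of_dim_le_zero hC hd hgC) rfl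
    exact Set.mem_singleton_iff.1 this ▸ hg
  have h : SuppIn F G :=
    ⟨fun x hx => isClosed_point_of_dim_le_zero hC hd ((hG x).2 ⟨x, hx, specializes_rfl⟩),
      fun x hx a => stalk_eq_zero_of_notMem_support (fun hx' => hx (hGS x hx')) a⟩
  have hfin : Module.Finite k (Coh.HH X F 0) := CohFound.finite_HH_of_isProper F hF 0
  rw [h.euler_eq hfin]
  obtain ⟨x, hx⟩ := hne
  letI : ∀ y : X, Module k (F.presheaf.stalk y) := fun y => stalkMod k F y
  haveI : Nontrivial (F.presheaf.stalk x) := not_subsingleton_iff_nontrivial.1 hx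
  haveI : Nontrivial (∀ y : G, F.presheaf.stalk (y : X)) :=
    Pi.nontrivial_at (⟨x, hGS x hx⟩ : G)
  haveI : Nontrivial (Coh.HH X F 0) := (h.h0Equiv k).toEquiv.nontrivial
  exact_mod_cast Module.finrank_pos

/-- Positivity of one coherent module. -/
def Pos (k : Type u) [Field k] (X : Scheme.{u}) [X.Over (Spec (CommRingCat.of k))] {r : ℕ}
    (M : Fin r → X.Modules) (F : X.Modules) : Prop :=
  topologicalKrullDim (CohB1.support F) ≤ (r : WithBot ℕ∞) →
    0 ≤ alt (chi k M F) ∧ (topologicalKrullDim (CohB1.support F) = (r : WithBot ℕ∞) → 0 < alt (chi k M F))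

theorem pos_zero (M : Fin 0 → X.Modules) {F : X.Modules} (hF : Coh.IsCoh F) : Pos k X M F := by
  intro hd
  have h : alt (chi k M F) = Curv2.euler k X F := by
    rw [alt, Fintype.sum_unique]
    simp only [Finset.univ_eq_empty, Finset.prod_empty, one_mul]
    exact CurveCoh17.euler_iso (M2.tensorIso (Iso.refl F) (eqToIso (by simp [FGA.multiTwist, FGA.tensorList])) ≪≫
      M2.tensorRUnit F)
  rw [h]
  rcases (CohB1.support F).eq_empty_or_nonempty with he | hne
  · rw [euler_of_isZero hF (isZero_of_support_empty he)]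
    refine ⟨le_rfl, fun h0 => ?_⟩
    haveI : IsEmpty (CohB1.support F) := by rw [he]; infer_instance
    haveI : IsEmpty (IrreducibleCloseds (CohB1.support F)) :=
      ⟨fun c => IsEmpty.false c.isIrreducible.nonempty.some⟩
    rw [topologicalKrullDim, Order.krullDim_eq_bot] at h0
    simp at h0
  · exact ⟨(euler_pos_of_dim_zero hF (by simpa using hd) hne).le,
      fun _ => euler_pos_of_dim_zero hF (by simpa using hd) hne⟩

theorem alt_chi_cons_pow {r : ℕ} {A : X.Modules} (hA : PicF.IsInvertible A) {M : Fin r → X.Modules}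
    (hM : ∀ i, PicF.IsInvertible (M i)) {F : X.Modules} (hF : Coh.IsCoh F)
    (hr : topologicalKrullDim (CohB1.support F) ≤ ((r + 1 : ℕ) : WithBot ℕ∞)) :
    ∀ n : ℕ, alt (chi k (Fin.cons (CohB1.tensorPow A n) M) F) = n * alt (chi k (Fin.cons A M) F)
  | 0 => by
    rw [alt_chi_cons, alt_chi_iso (k := k) M
      (show CohB1.tensorMod (CohB1.tensorPow A 0) F ≅ F from M2.tensorLUnit F)]
    simp
  | n + 1 => by
    rw [show CohB1.tensorPow A (n + 1) = CohB1.tensorMod (CohB1.tensorPow A n) A from rfl,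
      alt_chi_cons_tensor (M2.isInvertible_tensorPow hA n) hA hM hF hr, alt_chi_cons_pow hA hM hF hr n]
    push_cast
    ring

/-- Intersection numbers of inverses of ample modules are positive. -/
theorem pos : ∀ (r : ℕ) (L M : Fin r → X.Modules), (∀ i, CohB1.IsAmple (L i)) →
    (∀ i, Nonempty (CohB1.tensorMod (L i) (M i) ≅ Coh.structureModule X)) →
    ∀ F : X.Modules, Coh.IsCoh F → Pos k X M F := by
  haveI : IsNoetherian X := CohFound.isNoetherian_of_isProper (X ↘ (Spec (CommRingCat.of k)))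
  intro r
  induction r with
  | zero => exact fun L M _ _ F hF => pos_zero M hF
  | succ r IH =>
  intro L M hL hLM F hF
  have hM : ∀ i, PicF.IsInvertible (M i) := fun i => by
    obtain ⟨e⟩ := hLM i
    exact M2.isInvertible_of_tensor_iso_unit (M i) (L i) (M2.tensorComm _ _ ≪≫ e)
  rcases isEmpty_or_nonempty X with hX | hX
  · intro _
    have he : CohB1.support F = ∅ := Set.eq_empty_of_isEmpty _
    rw [alt_chi_eq_zero (e := r) hM hF (by
      rw [he, dim_empty]
      exact bot_le) (Nat.lt_succ_self r)]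
    refine ⟨le_rfl, fun h0 => ?_⟩
    rw [he, dim_empty] at h0
    exact absurd h0.symm (WithBot.coe_ne_bot)
  refine CohFound.holds_of_extensions (Pos k X M) (fun A B h p hd => ?_) (fun S hS h1 h2 h3 p1 p3 hd => ?_)
    (fun Z i hi hZ I ι hι hI => ?_) hF
  · obtain ⟨e⟩ := h
    have hs : CohB1.support A = CohB1.support B :=
      subset_antisymm (CohFound.support_subset_of_mono e.hom) (CohFound.support_subset_of_mono e.inv)
    rw [← alt_chi_iso M e, ← hs]
    exact p (hs ▸ hd)
  · have hs : CohB1.support S.X₂ = CohB1.support S.X₁ ∪ CohB1.support S.X₃ := CohGab13.support_mid hS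
    rw [hs] at hd
    have q1 := p1 (dim_le_of_subset Set.subset_union_left hd)
    have q3 := p3 (dim_le_of_subset Set.subset_union_right hd)
    rw [alt_chi_add hM hS h1 h2 h3]
    refine ⟨add_nonneg q1.1 q3.1, fun heq => ?_⟩
    rw [hs] at heq
    by_contra hle
    have n1 : topologicalKrullDim (CohB1.support S.X₁) ≠ ((r + 1 : ℕ) : WithBot ℕ∞) := fun h =>
      hle (add_pos_of_pos_of_nonneg (q1.2 h) q3.1)
    have n3 : topologicalKrullDim (CohB1.support S.X₃) ≠ ((r + 1 : ℕ) : WithBot ℕ∞) := fun h =>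
      hle (add_pos_of_nonneg_of_pos q1.1 (q3.2 h))
    have := dim_union_le (M1.isClosed_support h1.2) (M1.isClosed_support h3.2)
      (le_of_lt_natCast_succ (lt_of_le_of_ne (dim_le_of_subset Set.subset_union_left hd) n1))
      (le_of_lt_natCast_succ (lt_of_le_of_ne (dim_le_of_subset Set.subset_union_right hd) n3))
    rw [heq, Nat.cast_le] at this
    omega
  intro hd
  haveI : IsLocallyNoetherian Z := LocallyOfFiniteType.isLocallyNoetherian i
  let G := (Scheme.Modules.pushforward i).obj I
  change 0 ≤ alt (chi k M G) ∧ (_ → 0 < alt (chi k M G))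
  have hIc : Coh.IsCoh I := M1.isCoh_of_mono ι (M1.isCoh_structureModule Z) hI
  have hG : Coh.IsCoh G := CohFound.isCoh_push_closedImm i hIc
  by_cases hlt : topologicalKrullDim (CohB1.support G) ≠ ((r + 1 : ℕ) : WithBot ℕ∞)
  · have hd' : topologicalKrullDim (CohB1.support G) ≤ (r : WithBot ℕ∞) :=
      le_of_lt_natCast_succ (lt_of_le_of_ne hd hlt)
    rw [alt_chi_eq_zero hM hG hd' (Nat.lt_succ_self r)]
    exact ⟨le_rfl, fun h => absurd h hlt⟩
  push Not at hlt
  suffices 0 < alt (chi k M G) from ⟨this.le, fun _ => this⟩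
  let η := i (genericPoint Z)
  have hass : ∀ y, Curv2.IsWeakAssPoint G y → y = η := by
    intro y hy
    haveI := hI
    obtain ⟨z, rfl, hz⟩ := WA.exists_weakAss_of_push i I y hy
    obtain ⟨m, hm⟩ := hz
    have hm0 := WA.ne_zero_of_radical_ann hm
    have hzO : Curv2.IsWeakAssPoint (Coh.structureModule Z) z := by
      refine WA.isWeakAssPoint_of_elem (stalkLin ι z m) (fun h0 => hm0 ((M1.mono_iff_stalk ι).1 hι z
        (h0.trans (map_zero (stalkLin ι z)).symm))) fun c hc => ?_
      obtain ⟨j, hj⟩ := WA.exists_pow_smul_eq_zero hm hc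
      exact ⟨j, by rw [← map_smul, hj, map_zero]⟩
    exact congrArg i (WA.eq_of_specializes_weakAss hzO (genericPoint_specializes z)).symm
  have hcl : closure ({η} : Set X) = Set.range i := by
    rw [show η = i (genericPoint Z) from rfl, ← Set.image_singleton, i.isClosedEmbedding.closure_image_eq,
      genericPoint_closure, Set.image_univ]
  have hGsub : CohB1.support G ⊆ closure {η} :=
    hcl ▸ CohFound.support_push_subset i I
  have hGne : (CohB1.support G).Nonempty := by
    by_contra hne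
    rw [Set.not_nonempty_iff_eq_empty.1 hne, dim_empty] at hlt
    exact WithBot.bot_ne_coe hlt
  have hη : η ∈ CohB1.support G := by
    obtain ⟨x, hx⟩ := hGne
    haveI := hG.1
    by_contra hη
    refine hx ⟨fun a b => ?_⟩
    have hno : ∀ y, ¬ Curv2.IsWeakAssPoint G y := fun y hy => hη (hass y hy ▸
      WA.not_subsingleton_of_isWeakAssPoint hy)
    exact (WA.subsingleton_stalk_of_no_weakAss hno x a).trans (WA.subsingleton_stalk_of_no_weakAss hno x b).symm
  have hsupp : CohB1.support G = closure {η} := subset_antisymm hGsub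
    ((M1.isClosed_support hG.2).closure_subset_iff.2 (Set.singleton_subset_iff.2 hη))
  obtain ⟨C, hC, hCsub, hηC, hCdim⟩ := exists_closed_of_dim_eq (hsupp ▸ hlt)
  obtain ⟨n, U, hU, hηU, hUC, -⟩ := Amp.exists_affine_hasSec_finite (hL 0) (Set.finite_singleton η)
    (U := ⟨Cᶜ, hC.isOpen_compl⟩) (Set.singleton_subset_iff.2 hηC)
  obtain ⟨s, hs⟩ := hU
  obtain ⟨e0⟩ := hLM 0
  let e : CohB1.tensorMod (CohB1.tensorPow (L 0) (n + 1)) (CohB1.tensorPow (M 0) (n + 1)) ≅
      Coh.structureModule X :=
    (M2.tensorPowMul (L 0) (M 0) (n + 1)).symm ≪≫ M2.tensorPowIso e0 (n + 1) ≪≫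
      (nonempty_tensorPow_unit (n + 1)).some
  have hP := M2.isInvertible_tensorPow (hL 0).1 (n + 1)
  have hN := M2.isInvertible_tensorPow (hM 0) (n + 1)
  haveI : Mono (mulMap (secMap s e) G) := mono_mulMap hN _ hG.1 fun y hy =>
    (surjective_secMap_iff hP hN s e y).2 (hs ▸ hass y hy ▸ hηU (Set.mem_singleton η))
  let Q := cokernel (mulMap (secMap s e) G)
  have hQ : Coh.IsCoh Q :=
    M1.isCoh_cokernel (CurveCoh17.isCoh_tensor (isCoh_of_isInvertible hN) hG).1 hG _
  have hQsub : CohB1.support Q ⊆ closure {η} :=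
    hsupp ▸ CohFound.support_subset_of_epi (cokernel.π (mulMap (secMap s e) G))
  have hQη : η ∉ CohB1.support Q := fun h => h ⟨fun a b =>
    (eq_zero_stalk_cokernel _ η (bijective_mulMap_stalk hN _ G η
      ((surjective_secMap_iff hP hN s e η).2 (hs ▸ hηU (Set.mem_singleton η)))).2 a).trans
    (eq_zero_stalk_cokernel _ η (bijective_mulMap_stalk hN _ G η
      ((surjective_secMap_iff hP hN s e η).2 (hs ▸ hηU (Set.mem_singleton η)))).2 b).symm⟩
  have hCQ : C ⊆ CohB1.support Q := fun x hx =>
    mem_support_cokernel_mulMap _ hG (hsupp ▸ hCsub hx) fun h =>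
      hUC (hs ▸ (surjective_secMap_iff hP hN s e x).1 h) hx
  have hQdim : topologicalKrullDim (CohB1.support Q) = (r : WithBot ℕ∞) :=
    le_antisymm (dim_le_of_notMem (M1.isClosed_support hQ.2) hQsub hQη (hsupp ▸ hlt.le))
      (hCdim.ge.trans (dim_le_of_subset hCQ le_rfl))
  have hpos := ((IH (fun j => L j.succ) (fun j => M j.succ) (fun j => hL _) (fun j => hLM _) Q hQ)
    hQdim.le).2 hQdim
  rw [← alt_chi_cons_cokernel (fun j => hM j.succ) hN (secMap s e) hG,
    alt_chi_cons_pow (hM 0) (fun j => hM j.succ) hG hlt.le] at hpos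
  have hMc : (Fin.cons (M 0) fun j => M j.succ) = M := Fin.cons_self_tail M
  rw [hMc] at hpos
  exact pos_of_mul_pos_right hpos (by positivity)

end Groth.Agent.Snapper
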