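import Mathlib.Algebra.MvPolynomial.Degrees
import Mathlib.Algebra.MvPolynomial.Eval
import Mathlib.Algebra.MvPolynomial.Monad
import Mathlib.NumberTheory.Bernoulli
import Mathlib.Algebra.BigOperators.Intervals

/-!
# Functions on `ℕ^n` with polynomial differences
-/

set_option autoImplicit false

open MvPolynomial Finset

namespace Groth.Agent.Snapper

variable {σ : Type*} [DecidableEq σ]

/-- `f` agrees with a polynomial of total degree at most `d`. -/
def PolyLE (d : ℕ) (f : (σ → ℕ) → ℚ) : Prop :=
  ∃ P : MvPolynomial σ ℚ, P.totalDegree ≤ d ∧ ∀ m, f m = eval (fun i => (m i : ℚ)) P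

theorem PolyLE.congr {d : ℕ} {f g : (σ → ℕ) → ℚ} (h : PolyLE d f) (e : ∀ m, f m = g m) : PolyLE d g := by
  obtain ⟨P, hP, hf⟩ := h
  exact ⟨P, hP, fun m => (e m).symm.trans (hf m)⟩

theorem PolyLE.mono {d d' : ℕ} {f : (σ → ℕ) → ℚ} (h : PolyLE d f) (hd : d ≤ d') : PolyLE d' f := by
  obtain ⟨P, hP, hf⟩ := h
  exact ⟨P, hP.trans hd, hf⟩

theorem polyLE_const (d : ℕ) (c : ℚ) : PolyLE d (fun _ : σ → ℕ => c) :=
  ⟨C c, by simp, fun m => by simp⟩

theorem PolyLE.add {d : ℕ} {f g : (σ → ℕ) → ℚ} (hf : PolyLE d f) (hg : PolyLE d g) :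
    PolyLE d (fun m => f m + g m) := by
  obtain ⟨P, hP, hPf⟩ := hf
  obtain ⟨Q, hQ, hQg⟩ := hg
  exact ⟨P + Q, (totalDegree_add P Q).trans (max_le hP hQ), fun m => by simp [hPf, hQg]⟩

theorem PolyLE.sub {d : ℕ} {f g : (σ → ℕ) → ℚ} (hf : PolyLE d f) (hg : PolyLE d g) :
    PolyLE d (fun m => f m - g m) := by
  obtain ⟨P, hP, hPf⟩ := hf
  obtain ⟨Q, hQ, hQg⟩ := hg
  exact ⟨P - Q, (totalDegree_sub P Q).trans (max_le hP hQ), fun m => by simp [hPf, hQg]⟩

/-- `T ↦ ∑_{j < T} j^p` in the variable `i`. -/
noncomputable def sumPow (i : σ) (p : ℕ) : MvPolynomial σ ℚ :=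
  ∑ l ∈ range (p + 1), C (bernoulli l * ((p + 1).choose l : ℚ) / (p + 1)) * X i ^ (p + 1 - l)

theorem totalDegree_sumPow (i : σ) (p : ℕ) : (sumPow i p).totalDegree ≤ p + 1 := by
  refine totalDegree_finsetSum_le fun l _ => (totalDegree_mul _ _).trans ?_
  rw [totalDegree_C, zero_add, totalDegree_X_pow]
  omega

theorem eval_sumPow (i : σ) (p : ℕ) (m : σ → ℕ) :
    eval (fun l => (m l : ℚ)) (sumPow i p) = ∑ j ∈ range (m i), (j : ℚ) ^ p := by
  rw [sum_range_pow, sumPow, map_sum]
  refine Finset.sum_congr rfl fun l _ => ?_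
  simp only [map_mul, eval_C, map_pow, eval_X]
  ring

/-- Discrete antiderivative in the variable `i`. -/
noncomputable def antidiff (i : σ) (P : MvPolynomial σ ℚ) : MvPolynomial σ ℚ :=
  ∑ s ∈ P.support, monomial (s.erase i) (coeff s P) * sumPow i (s i)

theorem totalDegree_antidiff (i : σ) (P : MvPolynomial σ ℚ) {d : ℕ} (h : P.totalDegree ≤ d) :
    (antidiff i P).totalDegree ≤ d + 1 := by
  refine totalDegree_finsetSum_le fun s hs => (totalDegree_mul _ _).trans ?_
  have h1 := (le_totalDegree hs).trans h
  have h2 : (monomial (s.erase i) (coeff s P)).totalDegree ≤ (s.erase i).sum (fun _ e => e) := by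
    rw [totalDegree_monomial _ (mem_support_iff.1 hs)]
  have h4 : (s.sum fun _ e => e) = s i + (s.erase i).sum (fun _ e => e) := by
    conv_lhs => rw [← Finsupp.single_add_erase i s]
    rw [Finsupp.sum_add_index' (fun _ => rfl) (fun _ _ _ => rfl), Finsupp.sum_single_index rfl]
  have h3 := totalDegree_sumPow i (s i)
  omega

theorem eval_antidiff (i : σ) (P : MvPolynomial σ ℚ) (m : σ → ℕ) :
    eval (fun l => (m l : ℚ)) (antidiff i P) =
      ∑ j ∈ range (m i), eval (fun l => ((Function.update m i j) l : ℚ)) P := by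
  classical
  conv_rhs => enter [2, j]; rw [P.as_sum, map_sum]
  rw [Finset.sum_comm, antidiff, map_sum]
  refine Finset.sum_congr rfl fun s _ => ?_
  rw [map_mul, eval_sumPow, Finset.mul_sum]
  refine Finset.sum_congr rfl fun j _ => ?_
  rw [show monomial s (coeff s P) = monomial (s.erase i) (coeff s P) * X i ^ (s i) from by
    rw [← monomial_add_single, Finsupp.erase_add_single]]
  rw [map_mul, map_pow, eval_X, Function.update_self, eval_monomial, eval_monomial]
  congr 1
  refine congrArg (fun t : ℚ => coeff s P * t) ?_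
  refine Finsupp.prod_congr (g1 := fun a b => ((m a : ℕ) : ℚ) ^ b) fun l hl => ?_
  have hl' : l ≠ i := fun h => by simp [h] at hl
  simp only [Function.update_of_ne hl']

theorem totalDegree_bind₁_le (g : σ → MvPolynomial σ ℚ) (hg : ∀ t, (g t).totalDegree ≤ 1)
    (P : MvPolynomial σ ℚ) : (bind₁ g P).totalDegree ≤ P.totalDegree := by
  conv_lhs => rw [P.as_sum, map_sum]
  refine totalDegree_finsetSum_le fun s hs => ?_
  rw [bind₁_monomial]
  refine (totalDegree_mul _ _).trans ?_
  rw [totalDegree_C, zero_add]
  refine (totalDegree_finset_prod _ _).trans (le_trans (Finset.sum_le_sum fun t _ => ?_) (le_totalDegree hs))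
  exact (totalDegree_pow _ _).trans ((Nat.mul_le_mul_left _ (hg t)).trans (mul_one _).le)

theorem polyLE_of_diff_aux {d : ℕ} (s : Finset σ) : ∀ f : (σ → ℕ) → ℚ,
    (∀ i ∈ s, PolyLE d (fun m => f (Function.update m i (m i + 1)) - f m)) →
    (∀ i, i ∉ s → ∀ m v, f (Function.update m i v) = f m) →
    (∀ m m', (∀ i ∈ s, m i = m' i) → f m = f m') →
    PolyLE (d + 1) f := by
  induction s using Finset.induction with
  | empty =>
    intro f _ _ h
    exact (polyLE_const (d + 1) (f 0)).congr fun m => h 0 m fun i hi => absurd hi (Finset.notMem_empty i)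
  | insert i s hi IH =>
    intro f hdiff hind hext
    obtain ⟨P, hP, hPf⟩ := hdiff i (Finset.mem_insert_self i s)
    have hg : PolyLE (d + 1) (fun m => f (Function.update m i 0)) := by
      refine IH _ (fun l hl => ?_) (fun l hl m v => ?_) (fun m m' h => ?_)
      · have hli : l ≠ i := fun h => hi (h ▸ hl)
        obtain ⟨Q, hQ, hQf⟩ := hdiff l (Finset.mem_insert_of_mem hl)
        refine ⟨bind₁ (fun t => if t = i then 0 else X t) Q, ?_, fun m => ?_⟩
        · refine (totalDegree_bind₁_le _ (fun t => ?_) Q).trans hQ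
          split_ifs <;> simp
        · have := hQf (Function.update m i 0)
          simp only [Function.update_of_ne hli] at this
          beta_reduce
          rw [Function.update_comm hli, this]
          show _ = eval₂Hom (RingHom.id ℚ) _ _
          rw [eval₂Hom_bind₁]
          refine congrArg (fun g => eval g Q) (funext fun t => ?_)
          rcases eq_or_ne t i with rfl | ht <;> simp [*]
      · by_cases hli : l = i
        · subst hli; simp
        · rw [Function.update_comm hli]
          exact hind l (by simp [hl, hli]) _ v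
      · refine hext _ _ fun l hl => ?_
        rcases Finset.mem_insert.1 hl with rfl | hl'
        · simp
        · have hli : l ≠ i := fun h => hi (h ▸ hl')
          rw [Function.update_of_ne hli, Function.update_of_ne hli, h l hl']
    refine (hg.add ⟨antidiff i P, totalDegree_antidiff i P hP, fun m => rfl⟩).congr fun m => ?_
    rw [eval_antidiff]
    simp only [← hPf, Function.update_idem, Function.update_self]
    rw [Finset.sum_range_sub (fun j => f (Function.update m i j)), Function.update_eq_self]
    ring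

/-- A function whose differences are polynomials of degree at most `d` is a polynomial of degree at most
`d + 1`. -/
theorem polyLE_of_diff [Fintype σ] {d : ℕ} (f : (σ → ℕ) → ℚ)
    (h : ∀ i, PolyLE d (fun m => f (Function.update m i (m i + 1)) - f m)) : PolyLE (d + 1) f :=
  polyLE_of_diff_aux Finset.univ f (fun i _ => h i) (fun i hi => absurd (Finset.mem_univ i) hi)
    (fun m m' hm => congrArg f (funext fun i => hm i (Finset.mem_univ i)))

/-- A function whose differences vanish is constant. -/
theorem polyLE_zero_of_diff_eq_zero [Fintype σ] (f : (σ → ℕ) → ℚ)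
    (h : ∀ i m, f (Function.update m i (m i + 1)) = f m) : PolyLE 0 f := by
  refine (polyLE_const 0 (f 0)).congr fun m => ?_
  induction hm : ∑ i, m i generalizing m with
  | zero =>
    congr 1; funext i
    exact ((Finset.sum_eq_zero_iff.1 hm) i (Finset.mem_univ i)).symm
  | succ N IH =>
    obtain ⟨i, hi⟩ : ∃ i, m i ≠ 0 := by
      by_contra h0; push Not at h0; simp [h0] at hm
    have e : m = Function.update (Function.update m i (m i - 1)) i (Function.update m i (m i - 1) i + 1) := by
      simp [Nat.sub_add_cancel (Nat.pos_of_ne_zero hi)]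
    rw [e, h]
    refine IH _ ?_
    rw [Finset.sum_update_of_mem (Finset.mem_univ i)]
    rw [← Finset.sum_sdiff (Finset.subset_univ {i}), Finset.sum_singleton] at hm
    omega

end Groth.Agent.Snapper
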